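import Mathlib

/-!
# Algebra of lifts in central extensions
-/

set_option autoImplicit false

open scoped commutatorElement

namespace Cfsg.Agent.SchurOEight

variable {E : Type*} [Group E]

theorem central_comm {a : E} (h : a ∈ Subgroup.center E) (g : E) : Commute g a :=
  Subgroup.mem_center_iff.1 h g

theorem commutator_sq {x y : E} (hxy : ⁅x, y⁆ ∈ Subgroup.center E) (hx : x * x ∈ Subgroup.center E) :
    ⁅x, y⁆ * ⁅x, y⁆ = 1 := by
  have h1 : ⁅x * x, y⁆ = 1 := commutatorElement_eq_one_iff_commute.2 (central_comm hx y).symm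
  have h2 : ⁅x * x, y⁆ = x * ⁅x, y⁆ * x⁻¹ * ⁅x, y⁆ := by
    simp only [commutatorElement_def]; group
  rw [h1, (central_comm hxy x).eq, mul_inv_cancel_right] at h2
  exact h2.symm

theorem edge_cube {x w : E} (hd : w ^ 3 ∈ Subgroup.center E)
    (hk : x * w * x⁻¹ * w ∈ Subgroup.center E) : (x * (w * x * w⁻¹)⁻¹) ^ 3 = 1 := by
  set k := x * w * x⁻¹ * w with hkd
  have h1 : x * w * x⁻¹ = k * w⁻¹ := by rw [hkd, mul_inv_cancel_right]
  have h2 : k ^ 3 = w ^ 3 * w ^ 3 := by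
    have h : (x * w * x⁻¹) ^ 3 = w ^ 3 := by
      rw [conj_pow, (central_comm hd x).eq, mul_inv_cancel_right]
    rw [h1, (central_comm hk w⁻¹).symm.mul_pow, inv_pow] at h
    exact eq_mul_of_mul_inv_eq h
  rw [show x * (w * x * w⁻¹)⁻¹ = (x * w * x⁻¹) * w⁻¹ by group, h1, mul_assoc,
    ((central_comm hk (w⁻¹ * w⁻¹)).symm).mul_pow, h2, (Commute.refl w⁻¹).mul_pow, inv_pow]
  group

theorem edge_conj {x y : E} (hw : (x * y⁻¹) ^ 3 = 1) (hc : x * x ∈ Subgroup.center E)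
    (he : y * y = x * x) : (x * y⁻¹) * x * (x * y⁻¹)⁻¹ = y := by
  have h : x * y⁻¹ * x = y * x⁻¹ * y := by
    have h2 : (x * y⁻¹ * x) * (y⁻¹ * x * y⁻¹) = 1 := by
      rw [← hw, pow_succ, pow_two]; group
    rw [mul_eq_one_iff_eq_inv.1 h2]; group
  rw [mul_inv_rev, inv_inv, ← mul_assoc, h, show y * x⁻¹ * y * y * x⁻¹ = y * (x⁻¹ * (y * y) * x⁻¹) by group,
    he, inv_mul_cancel_left, mul_inv_cancel, mul_one]

theorem commutator_central_mul (y z : E) {a : E} (ha : a ∈ Subgroup.center E) :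
    ⁅y, a * z⁆ = ⁅y, z⁆ := by
  rw [commutatorElement_def, commutatorElement_def, mul_inv_rev,
    show y * (a * z) = a * (y * z) by rw [← mul_assoc, (central_comm ha y).eq, mul_assoc],
    show a * (y * z) * y⁻¹ * (z⁻¹ * a⁻¹) = a * (y * z * y⁻¹ * z⁻¹) * a⁻¹ by group,
    ← (central_comm ha (y * z * y⁻¹ * z⁻¹)).eq, mul_inv_cancel_right]

theorem commutator_transport {x y w z : E} (hy : w * x * w⁻¹ = y) (hw : ⁅w, z⁆ ∈ Subgroup.center E)
    (hx : ⁅x, z⁆ ∈ Subgroup.center E) : ⁅y, z⁆ = ⁅x, z⁆ := by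
  have h1 : w * z * w⁻¹ = ⁅w, z⁆ * z := by simp only [commutatorElement_def]; group
  calc ⁅y, z⁆ = ⁅y, ⁅w, z⁆ * z⁆ := (commutator_central_mul y z hw).symm
    _ = ⁅w * x * w⁻¹, w * z * w⁻¹⁆ := by rw [hy, h1]
    _ = w * ⁅x, z⁆ * w⁻¹ := (conjugate_commutatorElement _ _ _).symm
    _ = ⁅x, z⁆ := by rw [(central_comm hx w).eq, mul_inv_cancel_right]

theorem sq_mul_inv {x y c : E} (hc : c ∈ Subgroup.center E) (hx : x * x = c) (hy : y * y = c)
    (he : ⁅x, y⁆ ∈ Subgroup.center E) : (x * y⁻¹) ^ 2 = ⁅x, y⁆ := by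
  have hi : ∀ t : E, t * t = c → t⁻¹ = c⁻¹ * t := fun t ht => by rw [← ht]; group
  have hce : ∀ t : E, t * c⁻¹ = c⁻¹ * t := fun t =>
    (central_comm (Subgroup.inv_mem _ hc) t).eq
  have h1 : ⁅x, y⁆ = c⁻¹ * c⁻¹ * (x * y * x * y) := by
    rw [commutatorElement_def, hi x hx, hi y hy]
    simp only [← mul_assoc]
    rw [hce (x * y), mul_assoc (c⁻¹ * (x * y)) x c⁻¹, hce x]
    simp only [← mul_assoc]
    rw [mul_assoc (c⁻¹ * x) y c⁻¹, hce y]
    simp only [← mul_assoc]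
    rw [mul_assoc c⁻¹ x c⁻¹, hce x]
    simp only [← mul_assoc]
  rw [h1, pow_two, hi y hy]
  simp only [← mul_assoc]
  rw [hce x, mul_assoc (c⁻¹ * x * y) x c⁻¹, hce x]
  simp only [← mul_assoc]
  rw [mul_assoc (c⁻¹ * x) y c⁻¹, hce y]
  simp only [← mul_assoc]
  rw [mul_assoc c⁻¹ x c⁻¹, hce x]
  simp only [← mul_assoc]

end Cfsg.Agent.SchurOEight
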