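import Cfsg.Agent.Lib.SchurOEight.Data
import Cfsg.Prelude.Def_Classical

/-!
# 8 × 8 matrices over the field with two elements as lists of column codes
-/

set_option autoImplicit false

open scoped Matrix

namespace Cfsg.Agent.SchurOEight

/-- Coordinates. -/
abbrev Ix : Type := Fin 4 ⊕ Fin 4

/-- Position of a coordinate. -/
def ixVal : Ix → ℕ
  | .inl i => i.val
  | .inr i => i.val + 4

/-- Boolean to the field. -/
def b2 (b : Bool) : ZMod 2 := bif b then 1 else 0

theorem b2_xor : ∀ a b : Bool, b2 (a ^^ b) = b2 a + b2 b := by decide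

/-- A column code times a coefficient. -/
def pick (b : Bool) (x : ℕ) : ℕ := bif b then x else 0

theorem b2_pick (b : Bool) (x r : ℕ) : b2 ((pick b x).testBit r) = b2 (x.testBit r) * b2 b := by
  cases b <;> simp [pick, b2]

/-- Apply a matrix to a vector code. -/
def app (A : List ℕ) (v : ℕ) : ℕ :=
  pick (v.testBit 0) (A.getD 0 0) ^^^ pick (v.testBit 1) (A.getD 1 0) ^^^ pick (v.testBit 2) (A.getD 2 0)
    ^^^ pick (v.testBit 3) (A.getD 3 0) ^^^ pick (v.testBit 4) (A.getD 4 0) ^^^ pick (v.testBit 5) (A.getD 5 0)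
    ^^^ pick (v.testBit 6) (A.getD 6 0) ^^^ pick (v.testBit 7) (A.getD 7 0)

/-- Multiply. -/
def mulC (A B : List ℕ) : List ℕ := (List.range 8).map fun c => app A (B.getD c 0)

/-- The identity. -/
def idC : List ℕ := [1, 2, 4, 8, 16, 32, 64, 128]

/-- The matrix of a list of column codes. -/
def toMat (A : List ℕ) : Matrix Ix Ix (ZMod 2) :=
  Matrix.of fun r c => b2 ((A.getD (ixVal c) 0).testBit (ixVal r))

theorem toMat_idC : toMat idC = 1 := by decide +kernel

theorem ixVal_lt (r : Ix) : ixVal r < 8 := by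
  rcases r with i | i <;> simp [ixVal] <;> omega

theorem toMat_mulC (A B : List ℕ) : toMat (mulC A B) = toMat A * toMat B := by
  ext r c
  have h : (mulC A B).getD (ixVal c) 0 = app A (B.getD (ixVal c) 0) := by
    simp [mulC, List.getD, List.getElem?_map, List.getElem?_range (ixVal_lt c)]
  show b2 (((mulC A B).getD (ixVal c) 0).testBit (ixVal r)) = _
  rw [h, Matrix.mul_apply, Fintype.sum_sum_type, Fin.sum_univ_four, Fin.sum_univ_four]
  simp only [app, Nat.testBit_xor, b2_xor, b2_pick]
  simp only [toMat, Matrix.of_apply, ixVal, Fin.val_zero, Fin.val_one, Fin.val_two,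
    show ((3 : Fin 4) : ℕ) = 3 from rfl]
  ring

/-- Polar form on codes. -/
def bB (a b : ℕ) : Bool :=
  (a.testBit 0 && b.testBit 4) ^^ (a.testBit 4 && b.testBit 0) ^^ (a.testBit 1 && b.testBit 5) ^^
    (a.testBit 5 && b.testBit 1) ^^ (a.testBit 2 && b.testBit 6) ^^ (a.testBit 6 && b.testBit 2) ^^
    (a.testBit 3 && b.testBit 7) ^^ (a.testBit 7 && b.testBit 3)

/-- The transvection with a given centre. -/
def transC (v : ℕ) : List ℕ := idC.map fun e => e ^^^ pick (bB e v) v

/-- Vectors from codes. -/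
def vec (n : ℕ) : Ix → ZMod 2 := fun r => b2 (n.testBit (ixVal r))

/-- Codes of vectors. -/
def code (v : Ix → ZMod 2) : ℕ :=
  (v (.inl 0)).val + 2 * (v (.inl 1)).val + 4 * (v (.inl 2)).val + 8 * (v (.inl 3)).val +
    16 * (v (.inr 0)).val + 32 * (v (.inr 1)).val + 64 * (v (.inr 2)).val + 128 * (v (.inr 3)).val

theorem code_spec : ∀ v : Ix → ZMod 2, code v < 256 ∧ vec (code v) = v := by decide +kernel

/-- Swapping the halves. -/
def flipIx (v : Ix → ZMod 2) : Ix → ZMod 2 := fun r => v r.swap

theorem transC_eq : ∀ n < 256,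
    toMat (transC n) = 1 + Matrix.vecMulVec (vec n) (flipIx (vec n)) := by decide +kernel

/-- The quadratic form on codes. -/
def qB (a : ℕ) : Bool :=
  (a.testBit 0 && a.testBit 4) ^^ (a.testBit 1 && a.testBit 5) ^^ (a.testBit 2 && a.testBit 6) ^^
    (a.testBit 3 && a.testBit 7)

theorem qB_spec : ∀ n < 256, Cfsg.quadFormPlus 4 (ZMod 2) (vec n) = b2 (qB n) := by decide +kernel

theorem app_spec (A : List ℕ) (n : ℕ) : toMat A *ᵥ vec n = vec (app A n) := by
  funext r
  rw [Matrix.mulVec, dotProduct, Fintype.sum_sum_type, Fin.sum_univ_four, Fin.sum_univ_four]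
  simp only [toMat, vec, Matrix.of_apply, app, Nat.testBit_xor, b2_xor, b2_pick, ixVal, Fin.val_zero,
    Fin.val_one, Fin.val_two, show ((3 : Fin 4) : ℕ) = 3 from rfl]
  ring

/-- The orbit check. -/
def chainOk (gens : List (List ℕ)) : List ℕ → List (ℕ × ℕ × ℕ) → Bool
  | known, [] => (List.range 256).all fun n => !qB n || known.contains n
  | known, (v, u, i) :: rest =>
    known.contains u && Nat.blt i 8 &&
      decide (mulC (mulC (gens.getD i []) (transC u)) (gens.getD i []) = transC v) &&
      chainOk gens (v :: known) rest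

end Cfsg.Agent.SchurOEight
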