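import Cfsg.Agent.Lib.SchurOEight.Even
import Cfsg.Agent.Lib.SchurOEight.Lifts

/-!
# Central extensions of the even part of W(E8)
-/

set_option autoImplicit false

open scoped commutatorElement

namespace Cfsg.Agent.SchurOEight

variable {E Q : Type*} [Group E] [Group Q] {π : E →* Q} {f : Fin 8 → Q}

theorem lifts_spec (hπ : Function.Surjective π) (hker : π.ker ≤ Subgroup.center E)
    (hf : EvenRel CoxeterMatrix.E₈ f) (h0 : f 0 = 1) :
    ∃ (g : Fin 8 → E) (e : E), e ∈ Subgroup.center E ∧ e * e = 1 ∧ g 0 = 1 ∧ (∀ i, π (g i) = f i) ∧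
      ∀ i j, (g i * (g j)⁻¹) ^ CoxeterMatrix.E₈ i j ∈ Subgroup.zpowers e := by
  have cen : ∀ {u : E}, π u = 1 → u ∈ Subgroup.center E := fun h => hker (MonoidHom.mem_ker.2 h)
  have rel : ∀ (i j : Fin 8) (m : ℕ), CoxeterMatrix.E₈ i j = m → (f i * (f j)⁻¹) ^ m = 1 :=
    fun i j m h => h ▸ hf i j
  have invol : ∀ a : Fin 8, CoxeterMatrix.E₈ a 0 = 2 → f a * f a = 1 := fun a h => by
    simpa [h0, pow_two] using rel a 0 2 h
  have hinv : ∀ a : Fin 8, CoxeterMatrix.E₈ a 0 = 2 → (f a)⁻¹ = f a := fun a h =>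
    inv_eq_of_mul_eq_one_right (invol a h)
  have comm : ∀ a b : Fin 8, CoxeterMatrix.E₈ a 0 = 2 → CoxeterMatrix.E₈ b 0 = 2 →
      CoxeterMatrix.E₈ a b = 2 → Commute (f a) (f b) := fun a b ha hb hab => by
    have h := rel a b 2 hab
    rw [hinv b hb, pow_two, mul_eq_one_iff_eq_inv, mul_inv_rev, hinv a ha, hinv b hb] at h
    exact h
  obtain ⟨y₀, hy₀⟩ := hπ (f 1)
  set c := y₀ * y₀ with hcd
  have hc : c ∈ Subgroup.center E := cen (by
    rw [hcd, map_mul, hy₀]; exact invol 1 (by decide))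
  clear_value c
  have next' : ∀ (a b : Fin 8) (x : E), CoxeterMatrix.E₈ a 0 = 2 → CoxeterMatrix.E₈ b 0 = 2 →
      CoxeterMatrix.E₈ a b = 3 → π x = f a → x * x = c →
      ∃ y, π y = f b ∧ y * y = c ∧ (x * y⁻¹) ^ 3 = 1 := fun a b x ha hb hab hx hxx => by
    obtain ⟨y, hy⟩ := hπ (f b)
    set w := x * y⁻¹ with hw
    have hπw : π w = f a * (f b)⁻¹ := by rw [hw, map_mul, map_inv, hx, hy]
    refine ⟨w * x * w⁻¹, ?_, ?_, edge_cube (cen ?_) (cen ?_)⟩
    · simp only [map_mul, map_inv, hπw, hx]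
      exact edge_conj (rel a b 3 hab) (by rw [invol a ha]; exact one_mem _)
        (by rw [invol a ha, invol b hb])
    · rw [show w * x * w⁻¹ * (w * x * w⁻¹) = w * (x * x) * w⁻¹ by group, hxx,
        (central_comm hc w).eq, mul_inv_cancel_right]
    · rw [map_pow, hπw, rel a b 3 hab]
    · simp only [map_mul, map_inv, hπw, hx]
      rw [hinv a ha, hinv b hb, ← mul_assoc (f a) (f a), invol a ha, one_mul,
        show f b * f a * (f a * f b) = f b * (f a * f a) * f b by group, invol a ha, mul_one,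
        invol b hb]
  obtain ⟨y₁, hy₁, hs₁, r01⟩ := next' 1 3 y₀ (by decide) (by decide) (by decide) hy₀ hcd.symm
  obtain ⟨y₂, hy₂, hs₂, r12⟩ := next' 3 4 y₁ (by decide) (by decide) (by decide) hy₁ hs₁
  obtain ⟨y₃, hy₃, hs₃, r23⟩ := next' 4 5 y₂ (by decide) (by decide) (by decide) hy₂ hs₂
  obtain ⟨y₄, hy₄, hs₄, r34⟩ := next' 5 6 y₃ (by decide) (by decide) (by decide) hy₃ hs₃
  obtain ⟨y₅, hy₅, hs₅, r45⟩ := next' 6 7 y₄ (by decide) (by decide) (by decide) hy₄ hs₄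
  -- commutators of commuting pairs
  have ccen : ∀ {x z : E}, Commute (π x) (π z) → ⁅x, z⁆ ∈ Subgroup.center E := fun {x z} h =>
    cen (by rw [map_commutatorElement]; exact commutatorElement_eq_one_iff_commute.2 h)
  have csq : ∀ {x z : E}, Commute (π x) (π z) → x * x = c → ⁅x, z⁆ * ⁅x, z⁆ = 1 := fun h hx =>
    commutator_sq (ccen h) (hx ▸ hc)
  have csym : ∀ {x z : E}, Commute (π x) (π z) → x * x = c → ⁅z, x⁆ = ⁅x, z⁆ := fun h hx => by
    rw [← commutatorElement_inv]; exact inv_eq_of_mul_eq_one_right (csq h hx)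
  have move : ∀ {x y z : E}, (x * y⁻¹) ^ 3 = 1 → x * x = c → y * y = c → Commute (π x) (π z) →
      Commute (π y) (π z) → ⁅y, z⁆ = ⁅x, z⁆ := fun h hx hy h1 h2 =>
    commutator_transport (edge_conj h (hx ▸ hc) (hy.trans hx.symm))
      (ccen (by rw [map_mul, map_inv]; exact h1.mul_left h2.inv_left)) (ccen h1)
  have k02 : Commute (π y₀) (π y₂) := hy₀ ▸ hy₂ ▸ comm 1 4 (by decide) (by decide) (by decide)
  have k03 : Commute (π y₀) (π y₃) := hy₀ ▸ hy₃ ▸ comm 1 5 (by decide) (by decide) (by decide)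
  have k04 : Commute (π y₀) (π y₄) := hy₀ ▸ hy₄ ▸ comm 1 6 (by decide) (by decide) (by decide)
  have k05 : Commute (π y₀) (π y₅) := hy₀ ▸ hy₅ ▸ comm 1 7 (by decide) (by decide) (by decide)
  have k13 : Commute (π y₁) (π y₃) := hy₁ ▸ hy₃ ▸ comm 3 5 (by decide) (by decide) (by decide)
  have k14 : Commute (π y₁) (π y₄) := hy₁ ▸ hy₄ ▸ comm 3 6 (by decide) (by decide) (by decide)
  have k15 : Commute (π y₁) (π y₅) := hy₁ ▸ hy₅ ▸ comm 3 7 (by decide) (by decide) (by decide)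
  have k24 : Commute (π y₂) (π y₄) := hy₂ ▸ hy₄ ▸ comm 4 6 (by decide) (by decide) (by decide)
  have k25 : Commute (π y₂) (π y₅) := hy₂ ▸ hy₅ ▸ comm 4 7 (by decide) (by decide) (by decide)
  have k35 : Commute (π y₃) (π y₅) := hy₃ ▸ hy₅ ▸ comm 5 7 (by decide) (by decide) (by decide)
  set e := ⁅y₀, y₅⁆ with hed
  have hec : e ∈ Subgroup.center E := ccen k05
  have he2 : e * e = 1 := csq k05 hcd.symm
  have e15 : ⁅y₁, y₅⁆ = e := move r01 hcd.symm hs₁ k05 k15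
  have e25 : ⁅y₂, y₅⁆ = e := (move r12 hs₁ hs₂ k15 k25).trans e15
  have e35 : ⁅y₃, y₅⁆ = e := (move r23 hs₂ hs₃ k25 k35).trans e25
  have e04 : ⁅y₀, y₄⁆ = e := by
    have := move r45 hs₄ hs₅ k04.symm k05.symm
    rw [csym k05 hcd.symm, csym k04 hcd.symm] at this
    exact this.symm
  have e14 : ⁅y₁, y₄⁆ = e := (move r01 hcd.symm hs₁ k04 k14).trans e04
  have e24 : ⁅y₂, y₄⁆ = e := (move r12 hs₁ hs₂ k14 k24).trans e14
  have e03 : ⁅y₀, y₃⁆ = e := by
    have := move r34 hs₃ hs₄ k03.symm k04.symm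
    rw [csym k04 hcd.symm, csym k03 hcd.symm] at this
    exact this.symm.trans e04
  have e13 : ⁅y₁, y₃⁆ = e := (move r01 hcd.symm hs₁ k03 k13).trans e03
  have e02 : ⁅y₀, y₂⁆ = e := by
    have := move r23 hs₂ hs₃ k02.symm k03.symm
    rw [csym k03 hcd.symm, csym k02 hcd.symm] at this
    exact this.symm.trans e03
  clear_value e
  -- the node of degree one next to the origin
  obtain ⟨z₀, hz₀⟩ := hπ (f 2)
  have z3 : f 2 ^ 3 = 1 := by simpa [h0] using rel 2 0 3 (by decide)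
  have zflip : ∀ a : Fin 8, CoxeterMatrix.E₈ a 0 = 2 → CoxeterMatrix.E₈ 2 a = 2 →
      f a * f 2 * (f a)⁻¹ = (f 2)⁻¹ := fun a ha h => by
    have h' := rel 2 a 2 h
    rw [hinv a ha, pow_two] at h'
    rw [hinv a ha, eq_inv_iff_mul_eq_one]
    calc f a * f 2 * f a * f 2 = (f 2)⁻¹ * (f 2 * f a * (f 2 * f a)) * f 2 := by group
      _ = 1 := by rw [h', mul_one, inv_mul_cancel]
  set z₁ := z₀⁻¹ * (y₀ * z₀ * y₀⁻¹) with hz₁d
  have hπz₁ : π z₁ = f 2 := by
    simp only [hz₁d, map_mul, map_inv, hz₀, hy₀]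
    rw [zflip 1 (by decide) (by decide)]
    calc (f 2)⁻¹ * (f 2)⁻¹ = (f 2)⁻¹ * (f 2)⁻¹ * f 2 ^ 3 := by rw [z3, mul_one]
      _ = f 2 := by rw [pow_succ, pow_two]; group
  have hflip₁ : y₀ * z₁ * y₀⁻¹ = z₁⁻¹ := by
    rw [hz₁d, show y₀ * (z₀⁻¹ * (y₀ * z₀ * y₀⁻¹)) * y₀⁻¹
      = (y₀ * z₀⁻¹ * y₀⁻¹) * (c * z₀ * c⁻¹) by rw [hcd]; group, ← (central_comm hc z₀).eq,
      mul_inv_cancel_right]
    group
  clear_value z₁
  set a := z₁ ^ 3 with had
  clear_value a
  have hac : a ∈ Subgroup.center E := cen (by rw [had, map_pow, hπz₁, z3])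
  have ha2 : a * a = 1 := by
    have h : (y₀ * z₁ * y₀⁻¹) ^ 3 = a⁻¹ := by rw [hflip₁, inv_pow, had]
    rw [conj_pow, ← had, (central_comm hac y₀).eq, mul_inv_cancel_right] at h
    exact mul_eq_one_iff_eq_inv.2 h
  set z := z₁ * a with hzd
  clear_value z
  have hz : π z = f 2 := by
    rw [hzd, map_mul, hπz₁, had, map_pow, hπz₁, z3, mul_one]
  have hz3 : z ^ 3 = 1 := by
    rw [hzd, (central_comm hac z₁).mul_pow, ← had, pow_succ a 2, pow_two, ha2, one_mul, ha2]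
  have hflip : y₀ * z * y₀⁻¹ = z⁻¹ := by
    rw [hzd, show y₀ * (z₁ * a) * y₀⁻¹ = (y₀ * z₁ * y₀⁻¹) * (y₀ * a * y₀⁻¹) by group,
      (central_comm hac y₀).eq, mul_inv_cancel_right, hflip₁, mul_inv_rev,
      inv_eq_of_mul_eq_one_right ha2, (central_comm hac z₁⁻¹).eq]
  have flips : ∀ {x : E} {b : Fin 8}, π x = f b → CoxeterMatrix.E₈ b 0 = 2 →
      CoxeterMatrix.E₈ 2 b = 2 → x * x = c → Commute (π y₀) (π x) → x * z * x⁻¹ = z⁻¹ := by
    intro x b hx hb h2 hxx hcom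
    obtain ⟨k, hk, hkc⟩ : ∃ k, x * z * x⁻¹ = k * z⁻¹ ∧ k ∈ Subgroup.center E :=
      ⟨x * z * x⁻¹ * z, by rw [mul_inv_cancel_right], cen (by
        simp only [map_mul, map_inv, hx, hz]
        rw [zflip b hb h2, inv_mul_cancel])⟩
    have hk3 : k ^ 3 = 1 := by
      have h : (x * z * x⁻¹) ^ 3 = 1 := by rw [conj_pow, hz3, mul_one, mul_inv_cancel]
      rwa [hk, (central_comm hkc z⁻¹).symm.mul_pow, inv_pow, hz3, inv_one, mul_one] at h
    have hk' : (x * y₀) * z * (x * y₀)⁻¹ = k⁻¹ * z := by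
      rw [show (x * y₀) * z * (x * y₀)⁻¹ = x * (y₀ * z * y₀⁻¹) * x⁻¹ by group, hflip,
        show x * z⁻¹ * x⁻¹ = (x * z * x⁻¹)⁻¹ by group, hk, mul_inv_rev, inv_inv,
        (central_comm (Subgroup.inv_mem _ hkc) z).eq]
    have hw : (x * y₀) * (x * y₀) ∈ Subgroup.center E := cen (by
      rw [show x * y₀ * (x * y₀) = x * (y₀ * x) * y₀ by group]
      simp only [map_mul]
      rw [hcom.eq, show π x * (π x * π y₀) * π y₀ = (π x * π x) * (π y₀ * π y₀) by group, hx, hy₀,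
        invol b hb, invol 1 (by decide), mul_one])
    have hk2 : k⁻¹ * k⁻¹ = 1 := by
      have h : k⁻¹ * (k⁻¹ * z) = z := by
        nth_rw 1 [← hk']
        calc k⁻¹ * (x * y₀ * z * (x * y₀)⁻¹)
            = (x * y₀) * (k⁻¹ * z) * (x * y₀)⁻¹ := by
              rw [← mul_assoc (x * y₀) k⁻¹ z, (central_comm (Subgroup.inv_mem _ hkc) (x * y₀)).eq]
              group
          _ = (x * y₀) * ((x * y₀) * z * (x * y₀)⁻¹) * (x * y₀)⁻¹ := by rw [hk']
          _ = (x * y₀) * (x * y₀) * z * ((x * y₀) * (x * y₀))⁻¹ := by group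
          _ = z := by rw [← (central_comm hw z).eq, mul_inv_cancel_right]
      rw [← mul_assoc] at h
      exact mul_eq_right.1 h
    have : k = 1 := by
      rw [← mul_inv_rev, inv_eq_one] at hk2
      rwa [pow_succ, pow_two, hk2, one_mul] at hk3
    rw [hk, this, one_mul]
  have f2 := flips hy₂ (by decide) (by decide) hs₂ k02
  have f3 := flips hy₃ (by decide) (by decide) hs₃ k03
  have f4 := flips hy₄ (by decide) (by decide) hs₄ k04
  have f5 := flips hy₅ (by decide) (by decide) hs₅ k05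
  -- the last edge
  set u := (z * y₁⁻¹) ^ 3 with hud
  have huc : u ∈ Subgroup.center E := cen (by
    rw [hud, map_pow, map_mul, map_inv, hz, hy₁]; exact rel 2 3 3 (by decide))
  clear_value u
  have hu : u * u = (e * c⁻¹) ^ 3 := by
    have hkc : e * c⁻¹ ∈ Subgroup.center E := mul_mem hec (Subgroup.inv_mem _ hc)
    have hx : (y₁ * y₃⁻¹) * (z * y₁⁻¹) * (y₁ * y₃⁻¹)⁻¹ = (e * c⁻¹) * (z * y₁⁻¹)⁻¹ := by
      have hz' : y₃⁻¹ * z * y₃ = z⁻¹ := by
        calc y₃⁻¹ * z * y₃ = y₃⁻¹ * (y₃ * z⁻¹ * y₃⁻¹) * y₃ := by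
              rw [show y₃ * z⁻¹ * y₃⁻¹ = (y₃ * z * y₃⁻¹)⁻¹ by group, f3, inv_inv]
          _ = z⁻¹ := by group
      have hyc : y₃⁻¹ * y₁⁻¹ * y₃ = y₁⁻¹ * e := by
        have h : ⁅y₁, y₃⁆ = e := e13
        have h' : y₁ * y₃ = y₃ * y₁ * e := by
          have h0 : y₁ * y₃ = e * (y₃ * y₁) := by rw [← h, commutatorElement_def]; group
          rw [h0, (central_comm hec (y₃ * y₁)).eq]
        rw [show y₃⁻¹ * y₁⁻¹ * y₃ = (y₁ * y₃)⁻¹ * y₃ by group, h', mul_inv_rev,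
          inv_eq_of_mul_eq_one_right he2, mul_assoc, show (y₃ * y₁)⁻¹ * y₃ = y₁⁻¹ by group,
          (central_comm hec y₁⁻¹).eq]
      calc (y₁ * y₃⁻¹) * (z * y₁⁻¹) * (y₁ * y₃⁻¹)⁻¹
          = y₁ * (y₃⁻¹ * z * y₃) * (y₃⁻¹ * y₁⁻¹ * y₃) * y₁⁻¹ := by group
        _ = y₁ * z⁻¹ * (y₁⁻¹ * (e * y₁⁻¹)) := by rw [hz', hyc]; group
        _ = y₁ * z⁻¹ * (e * c⁻¹) := by
            rw [← mul_assoc y₁⁻¹ e, (central_comm hec y₁⁻¹).eq, mul_assoc e, ← hs₁, mul_inv_rev]
        _ = (e * c⁻¹) * (z * y₁⁻¹)⁻¹ := by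
            rw [mul_inv_rev, inv_inv, (central_comm hkc (y₁ * z⁻¹)).eq]
    have h : (y₁ * y₃⁻¹ * (z * y₁⁻¹) * (y₁ * y₃⁻¹)⁻¹) ^ 3 = u := by
      rw [conj_pow, ← hud, (central_comm huc (y₁ * y₃⁻¹)).eq, mul_inv_cancel_right]
    rw [hx, (central_comm hkc (z * y₁⁻¹)⁻¹).symm.mul_pow, inv_pow, ← hud] at h
    exact (eq_mul_inv_iff_mul_eq.1 h.symm)
  -- rescale
  set h := u * c with hhd
  clear_value h
  have hh : h ∈ Subgroup.center E := hhd ▸ mul_mem huc hc
  have hch : c * (h * h) = e := by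
    rw [hhd, show u * c * (u * c) = u * (c * u) * c by group, ← (central_comm huc c).symm.eq,
      show c * (u * (u * c) * c) = c * ((u * u) * c * c) by group, hu,
      (central_comm (Subgroup.inv_mem _ hc) e).mul_pow, pow_succ e 2, pow_two e, he2, one_mul,
      pow_succ c⁻¹ 2, pow_two]
    rw [show e * (c⁻¹ * c⁻¹ * c⁻¹) * c * c = e * c⁻¹ by group, ← mul_assoc, (central_comm hec c).eq]
    group
  have hπh : π h = 1 := by
    rw [hhd, map_mul, hud, map_pow, map_mul, map_inv, hz, hy₁, rel 2 3 3 (by decide),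
      hcd, map_mul, hy₀, invol 1 (by decide), mul_one]
  have sqh : ∀ {x : E}, x * x = c → (x * h) * (x * h) = e := fun {x} hx => by
    rw [show x * h * (x * h) = x * (h * x) * h by group, ← (central_comm hh x).eq, ← hch, ← hx]
    group
  have quo : ∀ x y : E, (x * h) * (y * h)⁻¹ = x * y⁻¹ := fun x y => by
    rw [mul_inv_rev, ← mul_assoc, mul_inv_cancel_right]
  have zq : ∀ {x : E}, x * x = c → x * z * x⁻¹ = z⁻¹ → (z * (x * h)⁻¹) ^ 2 = e := fun {x} hx hfl => by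
    have hhi := Subgroup.inv_mem _ hh
    have h1 : z * x⁻¹ * (z * x⁻¹) = c⁻¹ := by
      have hz' : x⁻¹ * z = z⁻¹ * x⁻¹ := by
        calc x⁻¹ * z = x⁻¹ * (x * z * x⁻¹)⁻¹ := by rw [hfl, inv_inv]
          _ = z⁻¹ * x⁻¹ := by group
      rw [mul_assoc, ← mul_assoc x⁻¹ z, hz', ← hx]; group
    rw [mul_inv_rev, ← mul_assoc, (central_comm hhi z).eq, mul_assoc,
      (central_comm hhi (z * x⁻¹)).symm.mul_pow, pow_two, pow_two, h1]
    rw [← mul_inv_rev h h, ← mul_inv_rev, hch, inv_eq_of_mul_eq_one_right he2]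
  have zu : (z * (y₁ * h)⁻¹) ^ 3 = e := by
    have hhi := Subgroup.inv_mem _ hh
    rw [mul_inv_rev, ← mul_assoc, (central_comm hhi z).eq, mul_assoc,
      (central_comm hhi (z * y₁⁻¹)).symm.mul_pow, ← hud, inv_pow]
    have h3 : h ^ 3 = u * e := by
      rw [pow_succ, pow_two, ← hch, (central_comm hh (h * h)).eq,
        show u * (c * (h * h)) = (u * c) * (h * h) by group, ← hhd]
    rw [h3, mul_inv_rev, mul_assoc, inv_mul_cancel, mul_one, inv_eq_of_mul_eq_one_right he2]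
  refine ⟨![1, y₀ * h, z, y₁ * h, y₂ * h, y₃ * h, y₄ * h, y₅ * h], e, hec, he2, rfl, ?_, ?_⟩
  · intro i
    fin_cases i <;> simp [h0, hz, hy₀, hy₁, hy₂, hy₃, hy₄, hy₅, hπh]
  · set g : Fin 8 → E := ![1, y₀ * h, z, y₁ * h, y₂ * h, y₃ * h, y₄ * h, y₅ * h] with hg
    suffices H : ∀ i j, i < j → (g i * (g j)⁻¹) ^ CoxeterMatrix.E₈ i j ∈ Subgroup.zpowers e by
      intro i j
      rcases lt_trichotomy i j with hij | rfl | hij
      · exact H i j hij
      · simp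
      · rw [show g i * (g j)⁻¹ = (g j * (g i)⁻¹)⁻¹ by group, inv_pow, CoxeterMatrix.symmetric]
        exact Subgroup.inv_mem _ (H j i hij)
    have me := Subgroup.mem_zpowers e
    have mi := Subgroup.inv_mem _ me
    have mp : ∀ {x y : E}, x * x = c → y * y = c → ⁅x, y⁆ = e → (x * y⁻¹) ^ 2 = e := fun hx hy hxy =>
      (sq_mul_inv hc hx hy (hxy ▸ hec)).trans hxy
    have sq2 : ∀ {x : E}, x * x = c → (x * h) ^ 2 = e := fun hx => by rw [pow_two]; exact sqh hx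
    have zq' : (y₀ * h * z⁻¹) ^ 2 = e := by
      rw [show y₀ * h * z⁻¹ = (z * (y₀ * h)⁻¹)⁻¹ by group, inv_pow, zq hcd.symm hflip,
        inv_eq_of_mul_eq_one_right he2]
    intro i j hij
    fin_cases i <;> fin_cases j <;> first
      | exact absurd hij (by decide)
      | simp [hg, CoxeterMatrix.E₈, -mul_inv_rev, inv_pow, quo, sq2 hs₁, sq2 hs₂, sq2 hs₃, sq2 hs₄,
          sq2 hs₅, sq2 hcd.symm, hz3, zu, zq', zq hs₂ f2, zq hs₃ f3, zq hs₄ f4, zq hs₅ f5, r01, r12, r23,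
          r34, r45, mp hcd.symm hs₂ e02, mp hcd.symm hs₃ e03, mp hcd.symm hs₄ e04,
          mp hcd.symm hs₅ hed.symm, mp hs₁ hs₃ e13, mp hs₁ hs₄ e14, mp hs₁ hs₅ e15, mp hs₂ hs₄ e24,
          mp hs₂ hs₅ e25, mp hs₃ hs₅ e35]

theorem card_le (hσ : Function.Surjective π) (hker : π.ker ≤ Subgroup.center E)
    (hcomm : π.ker ≤ commutator E) (hf : EvenRel CoxeterMatrix.E₈ f) (h0 : f 0 = 1)
    (hgen : Subgroup.closure (Set.range f) = ⊤) [Finite CoxeterMatrix.E₈.Group] [Finite E] :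
    Nat.card E ≤ Nat.card CoxeterMatrix.E₈.Group := by
  obtain ⟨g, e, hec, he2, hg0, hgf, hrel⟩ := lifts_spec hσ hker hf h0
  set X := Subgroup.closure (Set.range g) with hX
  have hXK : ∀ v, ∃ x ∈ X, x⁻¹ * v ∈ Subgroup.center E := fun v => by
    have hm : π v ∈ X.map π := by
      rw [hX, MonoidHom.map_closure, ← Set.range_comp, show π ∘ g = f from funext hgf, hgen]
      trivial
    obtain ⟨x, hx, hxv⟩ := hm
    exact ⟨x, hx, hker (by rw [MonoidHom.mem_ker, map_mul, map_inv, hxv, inv_mul_cancel])⟩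
  have hcX : commutator E ≤ X := by
    rw [commutator_def, Subgroup.commutator_le]
    intro v _ w _
    obtain ⟨x, hx, hv⟩ := hXK v
    obtain ⟨y, hy, hw⟩ := hXK w
    rw [show v = (x⁻¹ * v) * x by rw [← (central_comm hv x).eq]; group,
      show w = (y⁻¹ * w) * y by rw [← (central_comm hw y).eq]; group,
      commutator_central_mul _ _ hw, ← commutatorElement_inv, commutator_central_mul _ _ hv,
      commutatorElement_inv]
    exact mul_mem (mul_mem (mul_mem hx hy) (inv_mem hx)) (inv_mem hy)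
  have htop : X = ⊤ := by
    refine eq_top_iff.2 fun v _ => ?_
    have hm : π v ∈ X.map π := by
      rw [hX, MonoidHom.map_closure, ← Set.range_comp, show π ∘ g = f from funext hgf, hgen]
      trivial
    obtain ⟨x, hx, hxv⟩ := hm
    have : x⁻¹ * v ∈ X := hcX (hcomm (by rw [MonoidHom.mem_ker, map_mul, map_inv, hxv, inv_mul_cancel]))
    simpa using mul_mem hx this
  have hN : (Subgroup.zpowers e).Normal := ⟨fun n hn v => by
    have : n ∈ Subgroup.center E := Subgroup.zpowers_le.2 hec hn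
    rwa [(central_comm this v).eq, mul_inv_cancel_right]⟩
  set q := QuotientGroup.mk' (Subgroup.zpowers e)
  have hev : EvenRel CoxeterMatrix.E₈ (fun i => q (g i)) := fun i j => by
    rw [← map_inv, ← map_mul, ← map_pow]
    exact (QuotientGroup.eq_one_iff _).2 (hrel i j)
  have hle := two_mul_card_le hev (i₀ := 0) (by simp [hg0]) (by
    rw [show Set.range (fun i => q (g i)) = q '' Set.range g from Set.range_comp q g,
      ← MonoidHom.map_closure, ← hX, htop,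
      Subgroup.map_top_of_surjective _ (QuotientGroup.mk'_surjective _)])
  have hcard := Subgroup.card_eq_card_quotient_mul_card_subgroup (Subgroup.zpowers e)
  have h2 : Nat.card (Subgroup.zpowers e) ≤ 2 := by
    rw [Nat.card_zpowers]
    exact Nat.le_of_dvd (by decide) (orderOf_dvd_of_pow_eq_one (by rw [pow_two, he2]))
  rw [hcard]
  calc Nat.card (E ⧸ Subgroup.zpowers e) * Nat.card (Subgroup.zpowers e)
      ≤ Nat.card (E ⧸ Subgroup.zpowers e) * 2 := Nat.mul_le_mul_left _ h2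
    _ ≤ _ := by omega

end Cfsg.Agent.SchurOEight
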