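import Cfsg.Agent.Lib.SchurOEight.Model
import Cfsg.Agent.Lib.ClassK.WeylCert
import Cfsg.Agent.Lib.LinearGroups.OrthPOrder
import Cfsg.Agent.S0287
import Cfsg.Agent.S0296

/-!
# Two double covers of PΩ⁺₈(2)
-/

set_option autoImplicit false

open scoped Matrix commutatorElement

namespace Cfsg.Agent.SchurOEight

noncomputable section

/-- The even part of W(E8). -/
abbrev WP : Subgroup CoxeterMatrix.E₈.Group := (par CoxeterMatrix.E₈).ker

/-- The simple group. -/
abbrev G8 : Type := Cfsg.POmega (ZMod 2) (Cfsg.quadFormPlus 4 (ZMod 2))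

local notation "ss" => CoxeterMatrix.E₈.simple

/-- An even pair of simple reflections. -/
def pr (i j : Fin 8) : WP := ⟨ss i * ss j, simple_mul_mem i j⟩

theorem ss_sq (i : Fin 8) : ss i * ss i = 1 := by
  rw [← CoxeterMatrix.toCoxeterSystem_simple CoxeterMatrix.E₈]
  exact CoxeterMatrix.E₈.toCoxeterSystem.simple_mul_simple_self i

theorem ss_pow (i j : Fin 8) : (ss i * ss j) ^ CoxeterMatrix.E₈ i j = 1 := by
  rw [← CoxeterMatrix.toCoxeterSystem_simple CoxeterMatrix.E₈]
  exact CoxeterMatrix.E₈.toCoxeterSystem.simple_mul_simple_pow i j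

theorem ss_inv (i : Fin 8) : (ss i)⁻¹ = ss i := inv_eq_of_mul_eq_one_right (ss_sq i)

theorem pr_mul (i j k : Fin 8) : pr i j * pr j k = pr i k :=
  Subtype.ext (by
    show ss i * ss j * (ss j * ss k) = ss i * ss k
    rw [mul_assoc, ← mul_assoc (ss j), ss_sq, one_mul])

theorem pr_inv (i j : Fin 8) : (pr i j)⁻¹ = pr j i :=
  Subtype.ext (by simp [pr, mul_inv_rev, ss_inv])

theorem pr_self (i : Fin 8) : pr i i = 1 := Subtype.ext (ss_sq i)

theorem closure_pr : Subgroup.closure (Set.range fun i => pr i 0) = ⊤ := by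
  set S := Subgroup.closure (Set.range fun i => pr i 0)
  have hgen : ∀ i j, pr i j ∈ S := fun i j => by
    rw [← pr_mul i 0 j, ← pr_inv j 0]
    exact mul_mem (Subgroup.subset_closure ⟨i, rfl⟩) (inv_mem (Subgroup.subset_closure ⟨j, rfl⟩))
  refine eq_top_iff.2 fun w _ => ?_
  have key : ∀ v : CoxeterMatrix.E₈.Group,
      (∃ x ∈ S, x.1 = v) ∨ ∃ i, ∃ x ∈ S, ss i * x.1 = v := by
    intro v
    induction v using CoxeterMatrix.E₈.toCoxeterSystem.simple_induction_left with
    | one => exact Or.inl ⟨1, one_mem _, rfl⟩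
    | mul_simple_left v k ih =>
      simp only [CoxeterMatrix.toCoxeterSystem_simple]
      rcases ih with ⟨x, hx, rfl⟩ | ⟨i, x, hx, rfl⟩
      · exact Or.inr ⟨k, x, hx, rfl⟩
      · exact Or.inl ⟨pr k i * x, mul_mem (hgen k i) hx, mul_assoc _ _ _⟩
  rcases key w.1 with ⟨x, hx, e⟩ | ⟨i, x, hx, e⟩
  · exact Subtype.ext e ▸ hx
  · exfalso
    have h : par CoxeterMatrix.E₈ (ss i * x.1) = 1 := by rw [e]; exact w.2
    rw [map_mul, MonoidHom.mem_ker.1 x.2, par_simple, mul_one] at h
    exact absurd h (by decide)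

/-- The Coxeter matrix entry is `m`. -/
def isM (m : ℕ) (i j : Fin 8) : Bool := decide (CoxeterMatrix.E₈.M i j = m)

theorem third_node_check :
    ∀ i j : Fin 8, isM 3 i j = true → ∃ k : Fin 8, isM 2 i k = true ∧ isM 2 j k = true := by
  decide +kernel

theorem third_node (i j : Fin 8) (h : CoxeterMatrix.E₈ i j = 3) :
    ∃ k, CoxeterMatrix.E₈ i k = 2 ∧ CoxeterMatrix.E₈ j k = 2 := by
  obtain ⟨k, h1, h2⟩ := third_node_check i j (decide_eq_true h)
  exact ⟨k, of_decide_eq_true h1, of_decide_eq_true h2⟩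

theorem pr_adj_mem {i j : Fin 8} (h : CoxeterMatrix.E₈ i j = 3) : pr i j ∈ commutator WP := by
  obtain ⟨k, hik, hjk⟩ := third_node i j h
  have hc : ∀ a b : Fin 8, CoxeterMatrix.E₈ a b = 2 → ss b * ss a * ss b = ss a := fun a b hab => by
    have h2 := ss_pow a b
    rw [hab, pow_two, mul_eq_one_iff_eq_inv, mul_inv_rev, ss_inv, ss_inv] at h2
    rw [mul_assoc, h2, ← mul_assoc, ss_sq, one_mul]
  have h3 : (ss i * ss j) ^ 3 = 1 := h ▸ ss_pow i j
  have he : pr i j = ⁅pr i k, pr i j⁆ := by
    refine Subtype.ext ?_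
    show ss i * ss j = ((⁅pr i k, pr i j⁆ : WP) : CoxeterMatrix.E₈.Group)
    simp only [commutatorElement_def, Subgroup.coe_mul, Subgroup.coe_inv, pr, mul_inv_rev, ss_inv]
    calc ss i * ss j = (ss i * ss j)⁻¹ * (ss i * ss j)⁻¹ * (ss i * ss j) ^ 3 := by
          rw [pow_succ, pow_two]; group
      _ = ss i * (ss i * (ss j)) * ss i * (ss j * ss i) := by
          rw [h3, mul_one, mul_inv_rev, ss_inv, ss_inv, ← mul_assoc (ss i) (ss i), ss_sq, one_mul,
            mul_assoc (ss j) (ss i)]
      _ = ss i * ((ss k * ss i * ss k) * (ss k * ss j * ss k)) * ss i * (ss j * ss i) := by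
          rw [hc i k hik, hc j k hjk]
      _ = _ := by simp only [mul_assoc]; rw [← mul_assoc (ss k) (ss k), ss_sq, one_mul]
  rw [he, commutator_def]
  exact Subgroup.commutator_mem_commutator (Subgroup.mem_top _) (Subgroup.mem_top _)

theorem wp_perfect : commutator WP = ⊤ := by
  rw [← top_le_iff, ← closure_pr, Subgroup.closure_le]
  rintro _ ⟨i, rfl⟩
  have e : ∀ a b : Fin 8, CoxeterMatrix.E₈ a b = 3 → pr b 0 ∈ commutator WP → pr a 0 ∈ commutator WP :=
    fun a b h hb => pr_mul a b 0 ▸ mul_mem (pr_adj_mem h) hb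
  have h0 : pr 0 0 ∈ commutator WP := pr_self 0 ▸ one_mem _
  have h2 := e 2 0 (by decide) h0
  have h3 := e 3 2 (by decide) h2
  have h1 := e 1 3 (by decide) h3
  have h4 := e 4 3 (by decide) h3
  have h5 := e 5 4 (by decide) h4
  have h6 := e 6 5 (by decide) h5
  have h7 := e 7 6 (by decide) h6
  fin_cases i <;> assumption

theorem wp_le_commutator : WP ≤ commutator CoxeterMatrix.E₈.Group := by
  intro w hw
  have h := wp_perfect.ge (Subgroup.mem_top (⟨w, hw⟩ : WP))
  have := Subgroup.mem_map_of_mem WP.subtype h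
  rw [commutator_def, Subgroup.map_commutator] at this
  exact Subgroup.commutator_mono le_top le_top this

theorem rep_mem_omega (w : WP) :
    rep w.1 ∈ Cfsg.Omega (ZMod 2) (Cfsg.quadFormPlus 4 (ZMod 2)) := by
  have := Subgroup.mem_map_of_mem rep (wp_le_commutator w.2)
  rw [commutator_def, Subgroup.map_commutator] at this
  exact Subgroup.commutator_mono le_top le_top this

/-- The first cover. -/
noncomputable def cov₁ : WP →* G8 :=
  (QuotientGroup.mk' _).comp ((rep.comp WP.subtype).codRestrict _ rep_mem_omega)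

theorem cov₁_surjective : Function.Surjective cov₁ := by
  intro x
  obtain ⟨⟨y, hy⟩, rfl⟩ := QuotientGroup.mk'_surjective _ x
  have hy' : y ∈ (commutator CoxeterMatrix.E₈.Group).map rep := by
    rw [commutator_def, Subgroup.map_commutator, Subgroup.map_top_of_surjective _ rep_surjective]
    exact hy
  obtain ⟨w, hw, rfl⟩ := hy'
  exact ⟨⟨w, Abelianization.commutator_subset_ker _ hw⟩, rfl⟩

theorem card_G8 : Nat.card G8 = 174182400 := by
  have S : QMax.QSetting (OrthOrder.qPlus 4 (ZMod 2)) :=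
    ⟨OrthForms.qPlus_nondeg 4, by simp [Fintype.card_sum]⟩
  have h := OrthPOrder.card_two S (by decide) (funext (OrthOrder.qPlus_apply 4))
  rw [Cfsg.Agent.S0287.result (q := 2) (by simp) 4 (by norm_num)] at h
  norm_num [Finset.prod_range_succ] at h
  linarith

theorem card_WP : Nat.card WP = 348364800 := by
  have h := WP.card_mul_index
  have h2 : WP.index = 2 := by
    rw [Subgroup.index_ker]
    have : (par CoxeterMatrix.E₈).range = ⊤ := by
      rw [eq_top_iff]
      intro x _
      have key : ∀ x : Multiplicative (ZMod 2), x = 1 ∨ x = Multiplicative.ofAdd 1 := by decide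
      rcases key x with rfl | rfl
      · exact one_mem _
      · exact ⟨ss 0, par_simple _ 0⟩
    rw [this, Subgroup.card_top]
    simp
  rw [h2, card_weyl] at h
  omega

theorem two_central {N : Subgroup WP} [N.Normal] (h : Nat.card N = 2) : N ≤ Subgroup.center WP := by
  intro n hn
  rw [Subgroup.mem_center_iff]
  intro g
  obtain ⟨a, b, hab, hu⟩ := Nat.card_eq_two_iff.1 h
  have two : ∀ x y : N, x ≠ 1 → y ≠ 1 → x = y := fun x y hx hy => by
    have hx' := hu.ge (Set.mem_univ x)
    have hy' := hu.ge (Set.mem_univ y)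
    have h1' := hu.ge (Set.mem_univ (1 : N))
    grind
  rcases eq_or_ne n 1 with rfl | hne
  · simp
  · have hc : g * n * g⁻¹ ∈ N := Subgroup.Normal.conj_mem inferInstance n hn g
    have := two ⟨_, hc⟩ ⟨n, hn⟩ (fun e => hne (conj_eq_one_iff.1 (congrArg Subtype.val e)))
      (fun e => hne (congrArg Subtype.val e))
    have e : g * n * g⁻¹ = n := congrArg Subtype.val this
    calc g * n = g * n * g⁻¹ * g := by group
      _ = n * g := by rw [e]

theorem card_ker {f : WP →* G8} (hf : Function.Surjective f) : Nat.card f.ker = 2 := by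
  have h := f.ker.card_mul_index
  rw [Subgroup.index_ker, f.range_eq_top.2 hf, Subgroup.card_top, card_G8, card_WP] at h
  omega

theorem par_prod (L : List (Fin 8)) :
    par CoxeterMatrix.E₈ (L.map ss).prod = Multiplicative.ofAdd (L.length : ZMod 2) := by
  induction L with
  | nil => simp
  | cons i L ih =>
    rw [List.map_cons, List.prod_cons, map_mul, ih, par_simple, ← ofAdd_add, List.length_cons,
      Nat.cast_succ, add_comm]

/-- Bounded index. -/
def fin8 (n : ℕ) : Fin 8 := ⟨n % 8, Nat.mod_lt _ (by decide)⟩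

/-- Words of the half-spin images. -/
def spinW (i : Fin 8) : List (Fin 8) := (Data.spinWord.getD i.val []).map fin8

theorem spinW_even : ∀ i : Fin 8, ((spinW i).length : ZMod 2) = 0 := by decide +kernel

/-- A preimage of the half-spin image. -/
def spinE (i : Fin 8) : WP := ⟨((spinW i).map ss).prod, by
  rw [MonoidHom.mem_ker, par_prod, spinW_even, ofAdd_zero]⟩

theorem spinW_mat : ∀ i : Fin 8, wordC (spinW i) = Data.spinMat.getD i.val [] ∧
    mulC (Data.spinMat.getD i.val []) (Data.spinInv.getD i.val []) = idC := by decide +kernel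

/-- Quotient of two spin matrices. -/
def spinQ (i j : Fin 8) : List ℕ := mulC (Data.spinMat.getD i.val []) (Data.spinInv.getD j.val [])

/-- Iterated product. -/
def powC (A : List ℕ) : ℕ → List ℕ
  | 0 => idC
  | n + 1 => mulC (powC A n) A

theorem powC_spec (A : List ℕ) (n : ℕ) : toMat (powC A n) = toMat A ^ n := by
  induction n with
  | zero => exact toMat_idC
  | succ n ih => rw [powC, toMat_mulC, ih, pow_succ]

theorem spinQ_rel : ∀ i j : Fin 8, powC (spinQ i j) (CoxeterMatrix.E₈ i j) = idC := by decide +kernel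

theorem rep_spinE_val (i : Fin 8) :
    ((rep (spinE i).1).1 : Matrix Ix Ix (ZMod 2)) = toMat (Data.spinMat.getD i.val []) := by
  rw [show (spinE i).1 = ((spinW i).map ss).prod from rfl, rep_word, wordO_val, (spinW_mat i).1]

theorem rep_spinE_inv_val (i : Fin 8) :
    ((rep (spinE i).1)⁻¹.1 : Matrix Ix Ix (ZMod 2)) = toMat (Data.spinInv.getD i.val []) := by
  rw [Subgroup.coe_inv]
  refine Units.inv_eq_of_mul_eq_one_right ?_
  rw [rep_spinE_val, ← toMat_mulC, (spinW_mat i).2, toMat_idC]

/-- Images for the second cover. -/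
noncomputable def spinG (i : Fin 8) : G8 := cov₁ (spinE i)

theorem spinG_rel : EvenRel CoxeterMatrix.E₈ spinG := fun i j => by
  simp only [spinG]
  rw [← map_inv, ← map_mul, ← map_pow]
  have h : rep (((spinE i * (spinE j)⁻¹) ^ CoxeterMatrix.E₈ i j : WP) : CoxeterMatrix.E₈.Group) = 1 := by
    simp only [Subgroup.coe_pow, Subgroup.coe_mul, Subgroup.coe_inv, map_pow, map_mul, map_inv]
    refine Subtype.ext (Units.ext ?_)
    simp only [Subgroup.coe_pow, Subgroup.coe_mul, Units.val_pow_eq_pow_val, Units.val_mul]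
    rw [rep_spinE_val, rep_spinE_inv_val, ← toMat_mulC, ← powC_spec]
    exact (congrArg toMat (spinQ_rel i j)).trans toMat_idC
  unfold cov₁
  rw [MonoidHom.comp_apply, show ((rep.comp WP.subtype).codRestrict _ rep_mem_omega)
    ((spinE i * (spinE j)⁻¹) ^ CoxeterMatrix.E₈ i j) = 1 from Subtype.ext h, map_one]

/-- The second cover. -/
noncomputable def cov₂ : WP →* G8 := evenHom spinG_rel

theorem spinW_zero : spinW 0 = [] := by decide +kernel

theorem spinG_zero : spinG 0 = 1 := by
  have : spinE 0 = 1 := Subtype.ext (by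
    show ((spinW 0).map ss).prod = 1
    rw [spinW_zero]; rfl)
  rw [spinG, this, map_one]

theorem cov₁_eq_one_iff {w : WP} : cov₁ w = 1 ↔
    ((rep w.1).1 : Matrix Ix Ix (ZMod 2)) = 1 := by
  have S : QMax.QSetting (OrthOrder.qPlus 4 (ZMod 2)) :=
    ⟨OrthForms.qPlus_nondeg 4, by simp [Fintype.card_sum]⟩
  constructor
  · intro h
    have hm : ((rep.comp WP.subtype).codRestrict _ rep_mem_omega) w ∈
        Subgroup.center (Cfsg.Omega (ZMod 2) (Cfsg.quadFormPlus 4 (ZMod 2))) :=
      (QuotientGroup.eq_one_iff _).1 h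
    have hcard : Nat.card (Subgroup.center (Cfsg.Omega (ZMod 2) (Cfsg.quadFormPlus 4 (ZMod 2)))) = 1 := by
      have e0 := (Subgroup.center (Cfsg.Omega (ZMod 2) (Cfsg.quadFormPlus 4 (ZMod 2)))).card_mul_index
      have e1 : (Subgroup.center (Cfsg.Omega (ZMod 2) (Cfsg.quadFormPlus 4 (ZMod 2)))).index = 174182400 :=
        card_G8
      rw [e1] at e0
      have e2 : Nat.card (Cfsg.Omega (ZMod 2) (Cfsg.quadFormPlus 4 (ZMod 2))) ≤ 348364800 := by
        rw [← card_WP]
        refine Nat.card_le_card_of_surjective ((rep.comp WP.subtype).codRestrict _ rep_mem_omega) ?_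
        rintro ⟨y, hy⟩
        have hy' : y ∈ (commutator CoxeterMatrix.E₈.Group).map rep := by
          rw [commutator_def, Subgroup.map_commutator, Subgroup.map_top_of_surjective _ rep_surjective]
          exact hy
        obtain ⟨v, hv, rfl⟩ := hy'
        exact ⟨⟨v, Abelianization.commutator_subset_ker _ hv⟩, rfl⟩
      have e3 := OrthPOrder.card_two S (by decide) (funext (OrthOrder.qPlus_apply 4))
      have e4 := OrthIndex.card_center_eq_one S fun z hz v => by
        rw [hz, neg_eq_iff_add_eq_zero, ← two_smul (ZMod 2), show (2 : ZMod 2) = 0 by decide, zero_smul]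
      obtain ⟨e⟩ := OrthSimple.exists_equiv_Omega (Q := OrthOrder.qPlus 4 (ZMod 2))
      rw [← Nat.card_congr (Subgroup.centerCongr e).toEquiv] at e4
      rwa [show ⇑(OrthOrder.qPlus 4 (ZMod 2)) = Cfsg.quadFormPlus 4 (ZMod 2) from
        funext (OrthOrder.qPlus_apply 4)] at e4
    rw [Subgroup.card_eq_one] at hcard
    rw [hcard, Subgroup.mem_bot] at hm
    have h2 : rep w.1 = 1 := congrArg Subtype.val hm
    rw [h2]; rfl
  · intro h
    have h2 : rep w.1 = 1 := Subtype.ext (Units.ext h)
    unfold cov₁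
    rw [MonoidHom.comp_apply, show ((rep.comp WP.subtype).codRestrict _ rep_mem_omega) w = 1 from
      Subtype.ext h2, map_one]

theorem spin_ne : Data.spinMat.getD 1 [] ≠ idC := by decide +kernel

theorem spinG_ne : spinG 1 ≠ 1 := by
  intro h
  have h1 := cov₁_eq_one_iff.1 h
  rw [rep_spinE_val, ← toMat_idC] at h1
  revert h1
  decide +kernel

theorem cov₂_surjective : Function.Surjective cov₂ := by
  haveI : IsSimpleGroup G8 := Cfsg.Agent.S0296.result 4 le_rfl
  haveI : cov₁.ker.Normal := inferInstance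
  have hz := two_central (card_ker cov₁_surjective)
  have hN : (cov₂.ker.map cov₁).Normal := Subgroup.Normal.map inferInstance _ cov₁_surjective
  rcases hN.eq_bot_or_eq_top with h | h
  · have hle : cov₂.ker ≤ cov₁.ker := (Subgroup.map_eq_bot_iff _).1 h
    have h1 := Nat.card_le_card_of_injective _ (Subgroup.inclusion_injective hle)
    have h2 := cov₂.ker.card_mul_index
    rw [Subgroup.index_ker, card_WP] at h2
    rw [card_ker cov₁_surjective] at h1
    rw [← MonoidHom.range_eq_top]
    haveI : Finite G8 := Nat.finite_of_card_ne_zero (by rw [card_G8]; decide)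
    refine Subgroup.eq_top_of_card_eq _ (le_antisymm (Subgroup.card_le_card_group _) ?_)
    rw [card_G8]
    have h3 : Nat.card cov₂.ker * Nat.card cov₂.range ≤ 2 * Nat.card cov₂.range :=
      Nat.mul_le_mul_right _ h1
    omega
  · exfalso
    have hsup : ∀ w : WP, ∃ n ∈ cov₂.ker, n⁻¹ * w ∈ Subgroup.center WP := fun w => by
      obtain ⟨n, hn, e⟩ := h.ge (Subgroup.mem_top (cov₁ w))
      exact ⟨n, hn, hz (by rw [MonoidHom.mem_ker, map_mul, map_inv, e, inv_mul_cancel])⟩
    have hle : commutator WP ≤ cov₂.ker := by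
      rw [commutator_def, Subgroup.commutator_le]
      intro v _ w _
      obtain ⟨x, hx, hv⟩ := hsup v
      obtain ⟨y, hy, hw⟩ := hsup w
      rw [show v = (x⁻¹ * v) * x by rw [← (central_comm hv x).eq]; group,
        show w = (y⁻¹ * w) * y by rw [← (central_comm hw y).eq]; group,
        commutator_central_mul _ _ hw, ← commutatorElement_inv, commutator_central_mul _ _ hv,
        commutatorElement_inv]
      exact mul_mem (mul_mem (mul_mem hx hy) (inv_mem hx)) (inv_mem hy)
    rw [wp_perfect] at hle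
    have h1 : cov₂ (pr 1 0) = 1 := hle (Subgroup.mem_top _)
    rw [cov₂, pr, evenHom_simple, spinG_zero, inv_one, mul_one] at h1
    exact spinG_ne h1

/-- The test word. -/
def fourW : List (Fin 8) := Data.fourWord.map fin8

theorem fourW_even : (fourW.length : ZMod 2) = 0 := by decide +kernel

/-- The test element. -/
def fourE : WP := ⟨(fourW.map ss).prod, by
  rw [MonoidHom.mem_ker, par_prod, fourW_even, ofAdd_zero]⟩

theorem fourW_mat : wordC fourW = Data.spinInv.getD 1 [] := by decide +kernel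

theorem cov₁_fourE : cov₁ fourE = cov₂ (pr 0 1) := by
  rw [cov₂, pr, evenHom_simple, spinG_zero, one_mul, ← mul_eq_one_iff_eq_inv, spinG, ← map_mul,
    cov₁_eq_one_iff, Subgroup.coe_mul, map_mul, Subgroup.coe_mul, Units.val_mul, rep_spinE_val,
    show (fourE : WP).1 = (fourW.map ss).prod from rfl, rep_word, wordO_val, fourW_mat, ← toMat_mulC,
    ← toMat_idC]
  refine congrArg toMat ?_
  decide +kernel

theorem pr_zero_one_sq : pr 0 1 * pr 0 1 = 1 := Subtype.ext (by
  show ss 0 * ss 1 * (ss 0 * ss 1) = 1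
  rw [← pow_two, ← show CoxeterMatrix.E₈ 0 1 = 2 by decide]
  exact ss_pow 0 1)

set_option maxRecDepth 20000 in
theorem four_roots : ClassK.WeylCert.sameB Chev.E8.pk ((fourW ++ fourW).map Fin.val) [] = false := by
  decide +kernel

attribute [local irreducible] fourW

set_option maxRecDepth 20000 in
theorem fourE_sq_ne : fourE * fourE ≠ 1 := by
  intro h
  have h1 : ClassK.WeylCert.wd CoxeterMatrix.E₈ (fourW ++ fourW) = ClassK.WeylCert.wd CoxeterMatrix.E₈ [] :=
    (ClassK.WeylCert.wd_append fourW fourW).trans (congrArg Subtype.val h)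
  have h2 := (ClassK.WeylCert.wd_eq_iff Chev.E8.ok Chev.ckComm_E8 Chev.ckCox_E8 _ _).1 h1
  have h3 : ∀ (P : Chev.Pk) (A : List ℕ), (∀ r < P.nroots, Chev.wl P A r = Chev.wl P [] r) →
      ClassK.WeylCert.sameB P A [] = true := fun P A hA => by
    simp only [ClassK.WeylCert.sameB, List.all_eq_true, Chev.Pk.mem_allRoots]
    intro r hr
    rw [Chev.nbeq, decide_eq_true_eq]
    exact hA r hr
  exact Bool.noConfusion (four_roots.symm.trans (h3 _ _ h2))

end

end Cfsg.Agent.SchurOEight
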