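/-!
# Data for the covers of PΩ⁺₈(2)
-/

set_option autoImplicit false

namespace Cfsg.Agent.SchurOEight.Data

/-- Roots of the simple reflections modulo 2. -/
def roots : List Nat := [69, 68, 84, 218, 70, 100, 138, 76]

/-- Orbit certificate. -/
def steps : List (Nat × Nat × Nat) :=
  [(17, 69, 2),
   (158, 68, 3),
   (142, 84, 3),
   (156, 218, 4),
   (34, 70, 5),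
   (238, 100, 6),
   (198, 138, 7),
   (203, 17, 3),
   (202, 158, 2),
   (216, 158, 4),
   (200, 142, 4),
   (248, 156, 5),
   (168, 34, 6),
   (162, 238, 7),
   (143, 203, 1),
   (141, 203, 4),
   (140, 202, 4),
   (188, 216, 5),
   (172, 200, 5),
   (114, 248, 6),
   (228, 168, 7),
   (201, 143, 4),
   (233, 141, 5),
   (86, 140, 3),
   (232, 140, 5),
   (54, 188, 6),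
   (38, 172, 6),
   (62, 114, 7),
   (19, 201, 3),
   (173, 201, 5),
   (99, 233, 6),
   (50, 86, 5),
   (98, 232, 6),
   (122, 54, 7),
   (106, 38, 7),
   (71, 19, 2),
   (119, 19, 5),
   (39, 173, 6),
   (47, 99, 7),
   (116, 50, 4),
   (184, 50, 6),
   (46, 98, 7),
   (35, 71, 5),
   (49, 119, 4),
   (253, 119, 6),
   (107, 39, 7),
   (254, 116, 6),
   (244, 184, 7),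
   (101, 35, 4),
   (169, 35, 6),
   (187, 49, 6),
   (177, 253, 7),
   (154, 254, 5),
   (178, 254, 7),
   (191, 101, 3),
   (239, 101, 6),
   (229, 169, 7),
   (223, 187, 5),
   (247, 187, 7),
   (214, 154, 7),
   (251, 191, 1),
   (53, 191, 6),
   (139, 239, 5),
   (163, 239, 7),
   (147, 223, 7),
   (92, 214, 6),
   (113, 251, 6),
   (81, 53, 5),
   (121, 53, 7),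
   (199, 139, 7),
   (25, 147, 6),
   (21, 113, 5),
   (61, 113, 7),
   (23, 81, 4),
   (29, 81, 7),
   (77, 199, 6),
   (83, 21, 4),
   (89, 21, 7),
   (91, 23, 7),
   (151, 29, 6),
   (137, 83, 3),
   (31, 83, 7),
   (211, 89, 6),
   (209, 91, 6),
   (221, 137, 2),
   (197, 137, 7),
   (149, 31, 6),
   (181, 209, 5),
   (152, 221, 0),
   (145, 221, 7),
   (79, 197, 6),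
   (241, 149, 5),
   (212, 152, 7),
   (27, 145, 6),
   (43, 79, 5),
   (94, 212, 6),
   (127, 27, 5),
   (109, 43, 4),
   (58, 94, 5),
   (57, 127, 4),
   (124, 58, 4),
   (227, 57, 3),
   (166, 124, 3),
   (167, 227, 1),
   (226, 166, 1),
   (242, 166, 2),
   (182, 226, 2),
   (108, 182, 3),
   (42, 108, 4),
   (78, 42, 5),
   (196, 78, 6),
   (136, 196, 7)]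

/-- Words of the half-spin images. -/
def spinWord : List (List Nat) :=
  [[],
   [5, 3, 4, 2, 3, 1, 3, 2, 4, 3, 5, 6, 5, 4, 3, 2, 1, 3, 4, 5, 6, 5, 4, 5, 4, 2, 3, 1, 3, 2, 4, 3, 2, 3, 4, 3, 1, 3, 4, 6, 7, 0, 2, 3, 4, 5, 6, 1, 3, 4, 5, 2, 3, 4, 1, 3, 2, 0, 2, 3, 1, 4, 3, 2, 5, 4, 3, 1, 6, 5, 4, 3, 2, 0, 5, 6, 4, 5, 3, 4, 2, 3, 1, 3, 2, 4, 3, 5, 4, 6, 5, 7, 6, 3],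
   [5, 3, 4, 2, 3, 1, 3, 2, 4, 3, 5, 4, 5, 3, 4, 1, 3, 2, 0, 2, 3, 1, 4, 3, 5, 4, 7, 2, 3, 4, 5, 6, 1, 3, 4, 5, 2, 3, 4, 1, 3, 2, 0, 2, 3, 1, 4, 3, 2, 5, 4, 3, 1, 6, 5, 4, 3, 2, 7, 5, 4, 3, 2, 1, 3, 4, 5, 6, 7, 0, 2, 3, 4, 5, 6, 1, 3, 4, 5, 2, 3, 4, 1, 3, 2, 0, 2, 3, 1, 4, 3, 2, 5, 4, 3, 1, 6, 5, 4, 3, 2, 0, 7, 6, 5, 4, 3, 1, 2, 3, 4, 5, 1, 3, 4, 5, 6, 7, 0, 2, 3, 4, 5, 6, 1, 3, 4, 5, 2, 3, 4, 1, 3, 2, 0, 2, 3, 1, 4, 3, 2, 5, 4, 3, 1, 6, 5, 4, 3, 2, 0, 7, 6, 5, 4, 3, 1, 7, 6, 4, 5, 3, 4, 1, 3, 2, 0, 2, 3, 1, 4, 3, 5, 4, 6, 7, 5, 4, 3, 1, 3, 4, 5, 7, 6, 5, 2, 3, 4, 1, 3, 2, 0, 2, 3, 1, 4, 3, 2, 5, 6, 7],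
   [5, 3, 4, 2, 3, 1, 3, 2, 4, 3, 5, 7, 6, 1, 3, 4, 5, 2, 3, 4, 1, 3, 2, 0, 2, 3, 1, 4, 3, 2, 5, 4, 3, 1, 6, 7, 6, 5, 4, 3, 2, 1, 3, 4, 5, 6, 7, 0, 2, 3, 4, 5, 6, 1, 3, 4, 5, 2, 3, 4, 1, 3, 2, 0, 2, 3, 1, 4, 3, 2, 5, 4, 3, 1, 6, 5, 4, 3, 2, 0, 7, 6, 5, 4, 3, 1, 2, 3, 4, 5, 6, 2, 4, 2, 3, 1, 3, 2, 4, 3, 4, 5, 6, 7, 2, 3, 4, 5, 6, 1, 3, 4, 5, 2, 3, 4, 1, 3, 2, 0, 2, 3, 1, 4, 3, 2, 5, 4, 3, 1, 6, 5, 4, 3, 2, 7, 6, 5, 1, 3, 2, 0, 2, 3, 1, 4, 3, 4, 5, 6, 7, 0, 2, 3, 4, 5, 6, 1, 3, 4, 5, 2, 3, 4, 1, 3, 2, 0, 2, 3, 1, 4, 3, 2, 5, 4, 3, 1, 6, 5, 4, 3, 2, 0, 7, 6, 5, 4],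
   [5, 6, 3, 4, 5, 2, 3, 4, 1, 3, 2, 0, 2, 3, 1, 4, 3, 2, 5, 4, 3, 6, 5, 6, 7, 2, 3, 4, 5, 6, 1, 3, 4, 5, 2, 3, 4, 1, 3, 2, 0, 2, 3, 1, 4, 3, 2, 5, 4, 3, 1, 6, 5, 4, 3, 2, 7, 6, 7, 3, 4, 5, 6, 1, 3, 4, 5, 2, 3, 4, 1, 3, 2, 0, 2, 3, 1, 4, 3, 2, 5, 4, 3, 1, 6, 5, 4, 3, 7, 1, 3, 2, 0, 2, 3, 1, 4, 2, 3, 1, 3, 2, 4, 7, 5, 6, 4, 5, 3, 4, 2, 3, 1, 3, 2, 4, 3, 5, 4, 6, 5, 7, 4, 3, 1, 3, 4, 0, 2, 3, 4, 5, 6, 1, 3, 4, 5, 2, 3, 4, 1, 3, 2, 0, 2, 3, 1, 4, 3, 2, 5, 4, 3, 1, 6, 5, 4, 3, 2, 0, 4, 3, 2, 1, 3, 4, 5, 6, 7, 0, 2, 3, 4, 5, 6, 1, 3, 4, 5, 2, 3, 4, 1, 3, 2, 0, 2, 3, 1, 4, 3, 2, 5, 4, 3, 1, 6, 5, 4, 3, 2, 0, 7, 6, 5, 4, 3, 1, 2, 3, 4, 5, 4, 2, 3, 1, 3, 2, 4, 5, 7, 6, 5, 4, 3, 2, 3, 4, 5, 6, 7, 6, 5, 4, 5, 6],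
   [5, 6, 3, 4, 5, 2, 3, 4, 1, 3, 2, 0, 2, 3, 1, 4, 3, 2, 5, 4, 3, 6, 5, 3, 4, 2, 3, 1, 3, 2, 4, 3, 4, 5, 6, 7, 3, 4, 5, 6, 1, 3, 4, 5, 2, 3, 4, 1, 3, 2, 0, 2, 3, 1, 4, 3, 2, 5, 4, 3, 1, 6, 5, 4, 3, 7, 6, 5, 4, 7, 6, 5, 4, 3, 2, 3, 4, 5, 6, 7, 4, 2, 3, 1, 3, 2, 4, 6, 4, 5, 3, 4, 1, 3, 2, 0, 2, 3, 1, 4, 3, 5, 4, 6, 1, 3, 2, 0, 2, 3, 1, 6, 5, 3, 4, 2, 3, 1, 3, 2, 4, 3, 5, 6],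
   [5, 6, 3, 4, 5, 2, 3, 4, 1, 3, 2, 0, 2, 3, 1, 4, 3, 2, 5, 4, 3, 6, 5, 6, 5, 4, 3, 1, 3, 4, 5, 6, 7, 6, 5, 3, 4, 2, 3, 1, 3, 2, 4, 3, 5, 6, 7, 5, 4, 2, 3, 1, 3, 2, 4, 5, 4, 2, 3, 1, 3, 2, 4, 7, 6, 4, 5, 3, 4, 1, 3, 2, 0, 2, 3, 1, 4, 3, 5, 4, 6, 7, 4, 3, 1, 3, 4, 3, 2, 1, 3, 4, 5, 6, 7, 0, 2, 3, 4, 5, 6, 1, 3, 4, 5, 2, 3, 4, 1, 3, 2, 0, 2, 3, 1, 4, 3, 2, 5, 4, 3, 1, 6, 5, 4, 3, 2, 0, 7, 6, 5, 4, 3, 1, 2, 3, 4, 5, 6, 3, 4, 5, 2, 3, 4, 1, 3, 2, 0, 2, 3, 1, 4, 3, 2, 5, 4, 3, 6, 5, 4, 7, 6, 4, 5, 2, 3, 4, 1, 3, 2, 0, 2, 3, 1, 4, 3, 2, 5, 4, 6, 7],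
   [7, 6, 5, 4, 3, 2, 3, 4, 5, 6, 7, 6, 7, 0, 2, 3, 4, 5, 6, 1, 3, 4, 5, 2, 3, 4, 1, 3, 2, 0, 2, 3, 1, 4, 3, 2, 5, 4, 3, 1, 6, 5, 4, 3, 2, 0, 7, 6, 5, 4, 3, 2, 1, 3, 4, 5, 6, 7, 0, 2, 3, 4, 5, 6, 1, 3, 4, 5, 2, 3, 4, 1, 3, 2, 0, 2, 3, 1, 4, 3, 2, 5, 4, 3, 1, 6, 5, 4, 3, 2, 0, 7, 6, 5, 4, 3, 1, 2, 3, 4, 5, 7, 6, 5, 4, 3, 1, 3, 4, 5, 6, 4, 5, 6, 3, 4, 5, 2, 3, 4, 1, 3, 2, 0, 2, 3, 1, 4, 3, 2, 5, 4, 3, 6, 5, 4, 7, 4, 5, 6, 1, 3, 4, 5, 2, 3, 4, 1, 3, 2, 0, 2, 3, 1, 4, 3, 2, 5, 4, 3, 1, 6, 5, 4, 7, 6, 5, 4, 3, 1, 3, 4, 5, 6, 7, 6, 5, 4, 3, 4, 5, 6, 7, 6, 5, 4, 3, 4, 5, 6, 7, 0, 6, 5, 4, 3, 1, 3, 4, 5, 7, 5, 6, 4, 5, 2, 3, 4, 1, 3, 2, 0, 2, 3, 1, 4, 3, 2, 5, 4, 6, 5, 7, 6]]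

/-- The half-spin images. -/
def spinMat : List (List Nat) := [[1, 2, 4, 8, 16, 32, 64, 128], [5, 2, 4, 8, 16, 40, 80, 130], [4, 130, 5, 40, 80, 8, 16, 2], [170, 146, 11, 60, 66, 125, 130, 210], [135, 2, 6, 24, 16, 120, 80, 130], [5, 6, 4, 8, 24, 40, 120, 135], [170, 16, 10, 20, 2, 85, 130, 80], [45, 18, 12, 8, 16, 40, 80, 210]]

/-- Their inverses. -/
def spinInv : List (List Nat) := [[1, 2, 4, 8, 16, 32, 64, 128], [5, 2, 4, 8, 16, 40, 80, 130], [5, 128, 1, 32, 64, 40, 80, 130], [170, 146, 11, 60, 66, 125, 130, 210], [135, 2, 6, 24, 16, 120, 80, 130], [5, 6, 4, 8, 24, 40, 120, 135], [170, 16, 10, 20, 2, 85, 130, 80], [45, 18, 12, 8, 16, 40, 80, 210]]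

/-- A word lifting to an element of order four. -/
def fourWord : List Nat := [5, 3, 4, 2, 3, 1, 3, 2, 4, 3, 5, 6, 5, 4, 3, 2, 1, 3, 4, 5, 6, 5, 4, 5, 4, 2, 3, 1, 3, 2, 4, 3, 2, 3, 4, 3, 1, 3, 4, 6, 7, 0, 2, 3, 4, 5, 6, 1, 3, 4, 5, 2, 3, 4, 1, 3, 2, 0, 2, 3, 1, 4, 3, 2, 5, 4, 3, 1, 6, 5, 4, 3, 2, 0, 5, 6, 4, 5, 3, 4, 2, 3, 1, 3, 2, 4, 3, 5, 4, 6, 5, 7, 6, 3]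

end Cfsg.Agent.SchurOEight.Data
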