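import Mathlib

/-!
# Homomorphisms on the even part of a Coxeter group

For a group `H` and elements `f i` satisfying `(f i * (f j)⁻¹) ^ M i j = 1`, the Coxeter group acts on
`Bool × H`; its even part maps to `H`.
-/

set_option autoImplicit false

namespace Cfsg.Agent.SchurOEight

variable {B : Type*} (M : CoxeterMatrix B) {H : Type*} [Group H]

/-- Parity of an element of a Coxeter group. -/
noncomputable def par : M.Group →* Multiplicative (ZMod 2) :=
  M.toCoxeterSystem.lift ⟨fun _ => Multiplicative.ofAdd 1, fun i j => by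
    rw [← ofAdd_add, show (1 : ZMod 2) + 1 = 0 by decide, ofAdd_zero, one_pow]⟩

theorem par_simple (i : B) : par M (M.simple i) = Multiplicative.ofAdd 1 := by
  rw [← CoxeterMatrix.toCoxeterSystem_simple M]
  exact M.toCoxeterSystem.lift_apply_simple _ i

/-- The relations. -/
def EvenRel (f : B → H) : Prop := ∀ i j, (f i * (f j)⁻¹) ^ M i j = 1

/-- The permutation attached to a generator. -/
def flipPerm (a : H) : Equiv.Perm (Bool × H) where
  toFun p := (!p.1, (bif p.1 then a⁻¹ else a) * p.2)
  invFun p := (!p.1, (bif p.1 then a⁻¹ else a) * p.2)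
  left_inv p := by rcases p with ⟨_ | _, h⟩ <;> simp
  right_inv p := by rcases p with ⟨_ | _, h⟩ <;> simp

theorem flipPerm_mul_true (a b : H) (h : H) :
    (flipPerm a * flipPerm b) (true, h) = (true, a * b⁻¹ * h) := by
  simp [flipPerm, Equiv.Perm.mul_apply, mul_assoc]

theorem flipPerm_mul_false (a b : H) (h : H) :
    (flipPerm a * flipPerm b) (false, h) = (false, a⁻¹ * b * h) := by
  simp [flipPerm, Equiv.Perm.mul_apply, mul_assoc]

theorem flipPerm_pow (a b : H) (n : ℕ) (h : H) :
    ((flipPerm a * flipPerm b) ^ n) (true, h) = (true, (a * b⁻¹) ^ n * h) ∧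
      ((flipPerm a * flipPerm b) ^ n) (false, h) = (false, (a⁻¹ * b) ^ n * h) := by
  induction n generalizing h with
  | zero => simp
  | succ n ih =>
    rw [pow_succ, pow_succ, pow_succ]
    constructor
    · rw [Equiv.Perm.mul_apply, flipPerm_mul_true, (ih _).1]
      simp [mul_assoc]
    · rw [Equiv.Perm.mul_apply, flipPerm_mul_false, (ih _).2]
      simp [mul_assoc]

variable {M} {f : B → H}

theorem EvenRel.liftable (hf : EvenRel M f) : M.IsLiftable fun i => flipPerm (f i) := by
  intro i j
  refine Equiv.ext fun ⟨b, h⟩ => ?_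
  obtain ⟨ht, hff⟩ := flipPerm_pow (f i) (f j) (M i j) h
  cases b
  · rw [hff, show (f i)⁻¹ * f j = (f j)⁻¹ * (f j * (f i)⁻¹) * (f j)⁻¹⁻¹ by group, conj_pow,
      M.symmetric i j, hf j i]
    simp
  · rw [ht, hf i j]
    simp

/-- The action of the Coxeter group. -/
noncomputable def act (hf : EvenRel M f) : M.Group →* Equiv.Perm (Bool × H) :=
  M.toCoxeterSystem.lift ⟨_, hf.liftable⟩

theorem act_simple (hf : EvenRel M f) (i : B) : act hf (M.simple i) = flipPerm (f i) := by
  rw [← CoxeterMatrix.toCoxeterSystem_simple M]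
  exact M.toCoxeterSystem.lift_apply_simple _ i

theorem act_form (hf : EvenRel M f) (w : M.Group) (b : Bool) :
    ∃ a : H, ∀ h, act hf w (b, h) =
      ((bif decide (par M w = 1) then b else !b), a * h) := by
  induction w using M.toCoxeterSystem.simple_induction_left generalizing b with
  | one => exact ⟨1, fun h => by simp⟩
  | mul_simple_left w i ih =>
    obtain ⟨a, ha⟩ := ih b
    refine ⟨(bif (bif decide (par M w = 1) then b else !b) then (f i)⁻¹ else f i) * a, fun h => ?_⟩
    rw [map_mul, map_mul, Equiv.Perm.mul_apply, ha, CoxeterMatrix.toCoxeterSystem_simple,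
      act_simple, par_simple]
    have key : ∀ x : Multiplicative (ZMod 2),
        decide (Multiplicative.ofAdd (1 : ZMod 2) * x = 1) = !decide (x = 1) := by decide
    rw [key]
    cases decide (par M w = 1) <;> cases b <;> simp [flipPerm, mul_assoc]

/-- The homomorphism on the even part. -/
noncomputable def evenHom (hf : EvenRel M f) : (par M).ker →* H where
  toFun w := (act hf w (true, 1)).2
  map_one' := by simp
  map_mul' v w := by
    obtain ⟨a, ha⟩ := act_form hf v.1 true
    obtain ⟨c, hc⟩ := act_form hf w.1 true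
    simp only [MonoidHom.mem_ker.1 v.2, MonoidHom.mem_ker.1 w.2, decide_true, cond_true] at ha hc
    simp only [Subgroup.coe_mul, map_mul, Equiv.Perm.mul_apply, ha, hc, mul_one]

theorem simple_mul_mem (i j : B) : M.simple i * M.simple j ∈ (par M).ker := by
  rw [MonoidHom.mem_ker, map_mul, par_simple, par_simple]
  decide

theorem evenHom_simple (hf : EvenRel M f) (i j : B) :
    evenHom hf ⟨M.simple i * M.simple j, simple_mul_mem i j⟩ = f i * (f j)⁻¹ := by
  show (act hf (M.simple i * M.simple j) (true, 1)).2 = _
  rw [map_mul, act_simple, act_simple, flipPerm_mul_true, mul_one]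

theorem evenHom_surjective (hf : EvenRel M f) {i₀ : B} (h₀ : f i₀ = 1)
    (hgen : Subgroup.closure (Set.range f) = ⊤) : Function.Surjective (evenHom hf) := by
  rw [← MonoidHom.range_eq_top, ← top_le_iff, ← hgen, Subgroup.closure_le]
  rintro _ ⟨i, rfl⟩
  exact ⟨_, by rw [evenHom_simple hf i i₀, h₀, inv_one, mul_one]⟩

theorem two_mul_card_le (hf : EvenRel M f) {i₀ : B} (h₀ : f i₀ = 1)
    (hgen : Subgroup.closure (Set.range f) = ⊤) [Finite M.Group] :
    2 * Nat.card H ≤ Nat.card M.Group := by
  have h1 : Nat.card H ≤ Nat.card (par M).ker :=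
    Nat.card_le_card_of_surjective _ (evenHom_surjective hf h₀ hgen)
  have h2 := (par M).ker.card_mul_index
  have h3 : (par M).ker.index = 2 := by
    rw [Subgroup.index_ker]
    have : (par M).range = ⊤ := by
      rw [eq_top_iff]
      intro x _
      have key : ∀ x : Multiplicative (ZMod 2), x = 1 ∨ x = Multiplicative.ofAdd 1 := by decide
      have := key x
      rcases this with rfl | rfl
      · exact one_mem _
      · exact ⟨M.simple i₀, par_simple M i₀⟩
    rw [this, Subgroup.card_top]
    simp
  rw [h3] at h2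
  omega

end Cfsg.Agent.SchurOEight
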