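import Cfsg.Agent.Lib.SchurOEight.Covers
import Cfsg.Agent.Lib.SchurMult.Cover

/-!
# The Schur multiplier of PΩ⁺₈(2)
-/

set_option autoImplicit false

namespace Cfsg.Agent.SchurOEight

universe u

instance finite_WP : Finite WP := inferInstance

/-- The fibred product of the two covers. -/
noncomputable def Fib : Subgroup (WP × WP) :=
  MonoidHom.eqLocus (cov₁.comp (MonoidHom.fst WP WP)) (cov₂.comp (MonoidHom.snd WP WP))

/-- Its projection. -/
noncomputable def fibProj : Fib →* G8 := (cov₁.comp (MonoidHom.fst WP WP)).comp Fib.subtype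

theorem fib_mem {a b : WP} : (a, b) ∈ Fib ↔ cov₁ a = cov₂ b := Iff.rfl

theorem sq_eq_one {f : WP →* G8} (hf : Function.Surjective f) {x : WP} (hx : f x = 1) : x * x = 1 := by
  have h : (⟨x, hx⟩ : f.ker) ^ Nat.card f.ker = 1 := pow_card_eq_one'
  rw [card_ker hf, pow_two] at h
  exact congrArg Subtype.val h

attribute [local irreducible] fourE fourW cov₁ cov₂

theorem fibProj_stem : Cfsg.IsStemExtension fibProj := by
  have hc1 := two_central (card_ker cov₁_surjective)
  have hc2 := two_central (card_ker cov₂_surjective)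
  have hsurj : Function.Surjective fibProj := fun q => by
    obtain ⟨a, rfl⟩ := cov₁_surjective q
    obtain ⟨b, hb⟩ := cov₂_surjective (cov₁ a)
    exact ⟨⟨(a, b), fib_mem.2 hb.symm⟩, rfl⟩
  refine ⟨hsurj, fun x hx => ?_, fun x hx => ?_⟩
  · rw [Subgroup.mem_center_iff]
    intro y
    have h1 : cov₁ x.1.1 = 1 := hx
    have h2 : cov₂ x.1.2 = 1 := (fib_mem.1 x.2).symm.trans h1
    exact Subtype.ext (Prod.ext (Subgroup.mem_center_iff.1 (hc1 h1) _) (Subgroup.mem_center_iff.1 (hc2 h2) _))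
  · set X := commutator Fib with hX
    have hmap : ∀ f : Fib →* WP, Function.Surjective f → X.map f = ⊤ := fun f hf => by
      rw [hX, commutator_def, Subgroup.map_commutator, Subgroup.map_top_of_surjective _ hf,
        ← commutator_def, wp_perfect]
    have hp : X.map fibProj = ⊤ := by
      rw [hX, commutator_def, Subgroup.map_commutator, Subgroup.map_top_of_surjective _ hsurj,
        ← Subgroup.map_top_of_surjective _ cov₁_surjective, ← Subgroup.map_commutator,
        ← commutator_def, wp_perfect]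
    -- the first factor
    set a := fourE with ha
    have hab : (a, pr 0 1) ∈ Fib := fib_mem.2 cov₁_fourE
    obtain ⟨d, hd, hde⟩ := hp.ge (Subgroup.mem_top (fibProj ⟨_, hab⟩))
    have hk : fibProj (d⁻¹ * ⟨_, hab⟩) = 1 := by rw [map_mul, map_inv, hde, inv_mul_cancel]
    have hk1 : cov₁ (d⁻¹ * ⟨_, hab⟩ : Fib).1.1 = 1 := hk
    have hk2 : cov₂ (d⁻¹ * ⟨_, hab⟩ : Fib).1.2 = 1 :=
      (fib_mem.1 (d⁻¹ * ⟨_, hab⟩ : Fib).2).symm.trans hk1
    set k : Fib := d⁻¹ * ⟨_, hab⟩ with hkd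
    have hksq : k * k = 1 :=
      Subtype.ext (Prod.ext (sq_eq_one cov₁_surjective hk1) (sq_eq_one cov₂_surjective hk2))
    have hkc : ∀ y : Fib, y * k = k * y := fun y =>
      Subtype.ext (Prod.ext (Subgroup.mem_center_iff.1 (hc1 hk1) _) (Subgroup.mem_center_iff.1 (hc2 hk2) _))
    have hA : ∃ m : Fib, m ∈ X ∧ m.1 = (a * a, 1) := by
      refine ⟨d * d, mul_mem hd hd, ?_⟩
      have h : (⟨_, hab⟩ : Fib) = d * k := by rw [hkd, mul_inv_cancel_left]
      have h2 : (⟨_, hab⟩ : Fib) * ⟨_, hab⟩ = d * d := by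
        rw [h, mul_assoc d k, ← mul_assoc k d, ← hkc d, mul_assoc d k k, hksq, mul_one]
      rw [← h2]
      exact Prod.ext rfl pr_zero_one_sq
    obtain ⟨m, hm, hme⟩ := hA
    have hz : cov₁ (a * a) = 1 := by
      rw [map_mul, ha, cov₁_fourE, ← map_mul, pr_zero_one_sq, map_one]
    have first : ∀ n : WP, cov₁ n = 1 → ∃ m' : Fib, m' ∈ X ∧ m'.1 = (n, 1) := fun n hn => by
      rcases eq_or_ne n 1 with rfl | hne
      · exact ⟨1, one_mem _, rfl⟩
      · refine ⟨m, hm, ?_⟩
        obtain ⟨p, q, hpq, hu⟩ := Nat.card_eq_two_iff.1 (card_ker cov₁_surjective)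
        have e1 := hu.ge (Set.mem_univ (⟨n, hn⟩ : cov₁.ker))
        have e2 := hu.ge (Set.mem_univ (⟨a * a, hz⟩ : cov₁.ker))
        have e3 := hu.ge (Set.mem_univ (1 : cov₁.ker))
        have n1 : (⟨n, hn⟩ : cov₁.ker) ≠ 1 := fun e => hne (congrArg Subtype.val e)
        have n2 : (⟨a * a, hz⟩ : cov₁.ker) ≠ 1 := fun e => fourE_sq_ne (congrArg Subtype.val e)
        have : (⟨n, hn⟩ : cov₁.ker) = ⟨a * a, hz⟩ := by grind
        rw [hme, show n = a * a from congrArg Subtype.val this]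
    have hs : Function.Surjective ((MonoidHom.snd WP WP).comp Fib.subtype) := fun b => by
      obtain ⟨c, hc⟩ := cov₁_surjective (cov₂ b)
      exact ⟨⟨(c, b), fib_mem.2 hc⟩, rfl⟩
    obtain ⟨t, ht, hte⟩ := (hmap _ hs).ge (Subgroup.mem_top x.1.2)
    have hte' : t.1.2 = x.1.2 := hte
    have hdiff : cov₁ ((t⁻¹ * x : Fib).1.1) = 1 := by
      refine (fib_mem.1 (t⁻¹ * x).2).trans ?_
      show cov₂ (t.1.2⁻¹ * x.1.2) = 1
      rw [hte', inv_mul_cancel, map_one]
    obtain ⟨m', hm', hme'⟩ := first _ hdiff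
    have : m' = t⁻¹ * x := Subtype.ext (hme'.trans (Prod.ext rfl (by
      show (1 : WP) = t.1.2⁻¹ * x.1.2
      rw [hte', inv_mul_cancel])))
    have hx' := mul_mem ht hm'
    rwa [this, mul_inv_cancel_left] at hx'

theorem ker_equiv : Nonempty (fibProj.ker ≃* Multiplicative (ZMod 2 × ZMod 2)) := by
  let φ : fibProj.ker →* cov₁.ker × cov₂.ker :=
    { toFun := fun x => (⟨x.1.1.1, x.2⟩, ⟨x.1.1.2, (fib_mem.1 x.1.2).symm.trans x.2⟩)
      map_one' := rfl
      map_mul' := fun _ _ => rfl }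
  have hφ : Function.Bijective φ := by
    refine ⟨fun x y h => ?_, fun p => ?_⟩
    · simp only [φ, MonoidHom.coe_mk, OneHom.coe_mk, Prod.mk.injEq, Subtype.mk.injEq] at h
      exact Subtype.ext (Subtype.ext (Prod.ext (congrArg Subtype.val h.1) (congrArg Subtype.val h.2)))
    · exact ⟨⟨⟨(p.1.1, p.2.1), fib_mem.2 (p.1.2.trans p.2.2.symm)⟩, p.1.2⟩, rfl⟩
  haveI : Fact (Nat.Prime 2) := ⟨Nat.prime_two⟩
  have e1 : cov₁.ker ≃* Multiplicative (ZMod 2) :=
    mulEquivOfPrimeCardEq (card_ker cov₁_surjective) (by simp)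
  have e2 : cov₂.ker ≃* Multiplicative (ZMod 2) :=
    mulEquivOfPrimeCardEq (card_ker cov₂_surjective) (by simp)
  exact ⟨((MulEquiv.ofBijective φ hφ).trans (MulEquiv.prodCongr e1 e2)).trans
    (MulEquiv.prodMultiplicative (ZMod 2) (ZMod 2)).symm⟩

theorem main {Q : Type u} [Group Q] [Finite Q] (e : G8 ≃* Q) :
    Cfsg.HasSchurMultiplier Q (Multiplicative (ZMod 2 × ZMod 2)) := by
  -- the upper bound
  obtain ⟨⟨Γ, _, _, σ, hσ, ⟨k⟩⟩, -⟩ := SchurMult.hasSchurMultiplier_mult (Q := Q)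
  let f : Fin 8 → Q := fun i => e (cov₁ (pr i 0))
  have hf : EvenRel CoxeterMatrix.E₈ f := fun i j => by
    simp only [f]
    rw [← map_inv, ← map_mul, ← map_inv, ← map_mul, pr_inv, pr_mul, ← map_pow, ← map_pow,
      show pr i j ^ CoxeterMatrix.E₈ i j = 1 from Subtype.ext (ss_pow i j), map_one, map_one]
  have hgen : Subgroup.closure (Set.range f) = ⊤ := by
    rw [show f = e.toMonoidHom.comp cov₁ ∘ fun i => pr i 0 from rfl, Set.range_comp,
      ← MonoidHom.map_closure, closure_pr]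
    exact Subgroup.map_top_of_surjective _ (e.surjective.comp cov₁_surjective)
  have hb := card_le hσ.1 hσ.2.1 hσ.2.2 hf (by simp [f, pr_self]) hgen
  have hQ : Nat.card Q = 174182400 := by rw [← Nat.card_congr e.toEquiv, card_G8]
  have hk : Nat.card σ.ker ≤ 4 := by
    have h := σ.ker.card_mul_index
    rw [Subgroup.index_ker, σ.range_eq_top.2 hσ.1, Subgroup.card_top, hQ] at h
    rw [card_weyl] at hb
    omega
  rw [Nat.card_congr k.toEquiv] at hk
  -- the cover
  set τ := e.toMonoidHom.comp fibProj with hτd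
  have hkτ : τ.ker = fibProj.ker := by
    ext x
    simp [τ, MonoidHom.mem_ker]
  have hτ : Cfsg.IsStemExtension τ :=
    ⟨e.surjective.comp fibProj_stem.1, hkτ ▸ fibProj_stem.2.1, hkτ ▸ fibProj_stem.2.2⟩
  obtain ⟨β, hβ⟩ := SchurMult.exists_lift_id τ hτ.1 hτ.2.1
  obtain ⟨c⟩ := ker_equiv
  let c' : τ.ker ≃* Multiplicative (ZMod 2 × ZMod 2) := (MulEquiv.subgroupCongr hkτ).trans c
  have hsurj := SchurMult.multMap_surjective hτ hβ
  have h4 : Nat.card τ.ker = 4 := by rw [Nat.card_congr c'.toEquiv]; simp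
  have hbij : Function.Bijective (SchurMult.multMap hβ) :=
    (Nat.bijective_iff_surjective_and_card _).2
      ⟨hsurj, le_antisymm (by omega) (Nat.card_le_card_of_surjective _ hsurj)⟩
  exact SchurMult.hasSchurMultiplier_of_equiv
    (c'.symm.trans (MulEquiv.ofBijective _ hbij).symm)

end Cfsg.Agent.SchurOEight
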