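import Cfsg.Agent.Lib.SchurOEight.Bits
import Cfsg.Agent.Lib.SchurOEight.Bound
import Cfsg.Agent.Lib.Spinor.Gen
import Cfsg.Agent.Lib.LinearGroups.OrthForms
import Cfsg.Agent.S1093

/-!
# W(E8) onto the orthogonal group of the lattice modulo 2
-/

set_option autoImplicit false

open scoped Matrix

namespace Cfsg.Agent.SchurOEight

/-- The orthogonal group of dimension eight over the field with two elements. -/
abbrev O8 : Subgroup (GL Ix (ZMod 2)) := Cfsg.isometryGroup (ZMod 2) (Cfsg.quadFormPlus 4 (ZMod 2))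

/-- Matrix of a simple reflection. -/
def sMat (i : Fin 8) : List ℕ := transC (Data.roots.getD i.val 0)

theorem sMat_sq : ∀ i, mulC (sMat i) (sMat i) = idC := by decide +kernel

/-- The simple reflection as a unit. -/
def sUnit (i : Fin 8) : GL Ix (ZMod 2) :=
  ⟨toMat (sMat i), toMat (sMat i), by rw [← toMat_mulC, sMat_sq, toMat_idC],
    by rw [← toMat_mulC, sMat_sq, toMat_idC]⟩

theorem sMat_qB : ∀ i : Fin 8, ∀ n < 256, app (sMat i) n < 256 ∧ qB (app (sMat i) n) = qB n := by
  decide +kernel

theorem sUnit_mem (i : Fin 8) : sUnit i ∈ O8 := by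
  intro u _
  obtain ⟨hn, hv⟩ := code_spec u
  show Cfsg.quadFormPlus 4 (ZMod 2) (toMat (sMat i) *ᵥ u) = Cfsg.quadFormPlus 4 (ZMod 2) u
  rw [← hv, app_spec, qB_spec _ hn, qB_spec _ (sMat_qB i _ hn).1, (sMat_qB i _ hn).2]

/-- The simple reflection in the orthogonal group. -/
def sO (i : Fin 8) : O8 := ⟨sUnit i, sUnit_mem i⟩

/-- Product of the matrices along a word. -/
def wordC : List (Fin 8) → List ℕ
  | [] => idC
  | i :: L => mulC (sMat i) (wordC L)

/-- Product along a word, as an element. -/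
def wordO (L : List (Fin 8)) : O8 := (L.map sO).prod

theorem wordO_val (L : List (Fin 8)) : ((wordO L).1 : Matrix Ix Ix (ZMod 2)) = toMat (wordC L) := by
  induction L with
  | nil => exact toMat_idC.symm
  | cons i L ih =>
    show ((sO i * wordO L : O8).1 : Matrix Ix Ix (ZMod 2)) = _
    rw [Subgroup.coe_mul, Units.val_mul, ih, wordC, toMat_mulC]
    rfl

theorem wordO_append (L L' : List (Fin 8)) : wordO (L ++ L') = wordO L * wordO L' := by simp [wordO]

theorem wordO_pow (L : List (Fin 8)) (m : ℕ) : wordO (List.replicate m L).flatten = wordO L ^ m := by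
  induction m with
  | zero => rfl
  | succ m ih => rw [List.replicate_succ, List.flatten_cons, wordO_append, ih, pow_succ']

theorem cox_check : ∀ i j : Fin 8,
    wordC (List.replicate (CoxeterMatrix.E₈ i j) [i, j]).flatten = idC := by decide +kernel

theorem sO_liftable : CoxeterMatrix.E₈.IsLiftable sO := fun i j => by
  have h : wordO [i, j] = sO i * sO j := by simp [wordO]
  rw [← h, ← wordO_pow]
  refine Subtype.ext (Units.ext ?_)
  rw [wordO_val, cox_check, toMat_idC]
  rfl

/-- The representation of the Coxeter group. -/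
noncomputable def rep : CoxeterMatrix.E₈.Group →* O8 :=
  CoxeterMatrix.E₈.toCoxeterSystem.lift ⟨sO, sO_liftable⟩

theorem rep_simple (i : Fin 8) : rep (CoxeterMatrix.E₈.simple i) = sO i := by
  rw [← CoxeterMatrix.toCoxeterSystem_simple CoxeterMatrix.E₈]
  exact CoxeterMatrix.E₈.toCoxeterSystem.lift_apply_simple _ i

theorem rep_word (L : List (Fin 8)) : rep (L.map CoxeterMatrix.E₈.simple).prod = wordO L := by
  induction L with
  | nil => exact map_one rep
  | cons i L ih => simp only [List.map_cons, List.prod_cons, map_mul, ih, rep_simple]; rfl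

theorem card_weyl : Nat.card CoxeterMatrix.E₈.Group = 696729600 :=
  Cfsg.Agent.S1093.result (⟨8, CoxeterMatrix.E₈⟩, 696729600) (by simp)

instance finite_weyl : Finite CoxeterMatrix.E₈.Group :=
  Nat.finite_of_card_ne_zero (by rw [card_weyl]; decide)

/-- A code is a centre of a transvection in the image. -/
def InImage (n : ℕ) : Prop :=
  ∃ g : O8, g ∈ rep.range ∧ (g.1 : Matrix Ix Ix (ZMod 2)) = toMat (transC n)

theorem inImage_root (i : Fin 8) : InImage (Data.roots.getD i.val 0) :=
  ⟨sO i, ⟨_, rep_simple i⟩, rfl⟩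

theorem chain_sound : ∀ (rest : List (ℕ × ℕ × ℕ)) (known : List ℕ),
    (∀ n ∈ known, InImage n) →
    chainOk ((List.finRange 8).map sMat) known rest = true →
    ∀ n < 256, qB n = true → InImage n := by
  intro rest
  induction rest with
  | nil =>
    intro known hk h n hn hq
    simp only [chainOk, List.all_eq_true, List.mem_range] at h
    have := h n hn
    simp only [hq, Bool.not_true, Bool.false_or, List.contains_iff_mem] at this
    exact hk n this
  | cons s rest ih =>
    obtain ⟨v, u, i⟩ := s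
    intro known hk h
    simp only [chainOk, Bool.and_eq_true, List.contains_iff_mem, decide_eq_true_eq, Nat.blt_eq] at h
    obtain ⟨⟨⟨hu, hi⟩, he⟩, hrest⟩ := h
    refine ih (v :: known) (fun n hn => ?_) hrest
    rcases List.mem_cons.1 hn with rfl | hn
    · obtain ⟨g, hg, hgm⟩ := hk u hu
      refine ⟨sO ⟨i, hi⟩ * g * sO ⟨i, hi⟩, mul_mem (mul_mem ⟨_, rep_simple _⟩ hg) ⟨_, rep_simple _⟩, ?_⟩
      have hget : ((List.finRange 8).map sMat).getD i [] = sMat ⟨i, hi⟩ := by
        simp [List.getD, List.getElem?_map, hi]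
      rw [hget] at he
      simp only [Subgroup.coe_mul, Units.val_mul, hgm]
      rw [← he, toMat_mulC, toMat_mulC]
      rfl
    · exact hk n hn

theorem chain_check :
    chainOk ((List.finRange 8).map sMat) Data.roots Data.steps = true := by decide +kernel

theorem roots_getD : ∀ n ∈ Data.roots, ∃ i : Fin 8, Data.roots.getD i.val 0 = n := by decide +kernel

theorem inImage_all {n : ℕ} (hn : n < 256) (hq : qB n = true) : InImage n :=
  chain_sound _ _ (fun m hm => by
    obtain ⟨i, rfl⟩ := roots_getD m hm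
    exact inImage_root i) chain_check n hn hq

open FormsLib in
theorem rep_surjective : Function.Surjective rep := by
  classical
  set Q := OrthOrder.qPlus 4 (ZMod 2)
  have hQ : ⇑Q = Cfsg.quadFormPlus 4 (ZMod 2) := funext (OrthOrder.qPlus_apply 4)
  rw [← MonoidHom.range_eq_top]
  refine top_le_iff.1 fun x _ => ?_
  obtain ⟨g, hg⟩ : ∃ g : oGroup Q, ∀ v, g.1 v = x.1.1 *ᵥ v :=
    ⟨oEquiv Q ⟨x.1, by rw [hQ]; exact x.2⟩, fun v => rfl⟩
  have hgen : g ∈ Spinor.reflGroup Q := by
    rw [Spinor.reflGroup_eq_top (OrthForms.qPlus_nondeg 4) (Or.inr (by simp))]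
    trivial
  suffices H : ∀ g ∈ Spinor.reflGroup Q, ∃ y ∈ rep.range, ∀ v, g.1 v = y.1.1 *ᵥ v by
    obtain ⟨y, hy, hyv⟩ := H g hgen
    have : y = x := Subtype.ext (Units.ext (Matrix.ext_of_mulVec_single fun j => by
      rw [← hyv, hg]))
    exact this ▸ hy
  intro g hg
  induction hg using Subgroup.closure_induction with
  | mem g hg =>
    obtain ⟨v, hv, rfl⟩ := hg
    obtain ⟨hn, hvc⟩ := code_spec v
    have hq1 : Cfsg.quadFormPlus 4 (ZMod 2) v = 1 := by
      have h2 : ∀ a : ZMod 2, a ≠ 0 → a = 1 := by decide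
      exact h2 _ (hQ ▸ hv)
    obtain ⟨y, hy, hym⟩ := inImage_all hn (by
      have h := qB_spec _ hn
      rw [hvc, hq1] at h
      revert h; cases qB (code v) <;> simp [b2])
    refine ⟨y, hy, fun w => ?_⟩
    show refl Q v hv w = _
    rw [refl_apply, hym, transC_eq _ hn, hvc, Matrix.add_mulVec, Matrix.one_mulVec,
      Matrix.vecMulVec_mulVec, show Q v = 1 by rw [hQ]; exact hq1, inv_one, one_mul,
      CharTwo.sub_eq_add]
    congr 1
    rw [show QuadraticMap.polar Q w v = flipIx v ⬝ᵥ w by
      rw [hQ]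
      simp only [QuadraticMap.polar, Cfsg.quadFormPlus, dotProduct, flipIx, Fintype.sum_sum_type,
        Fin.sum_univ_four, Pi.add_apply, Sum.swap_inl, Sum.swap_inr]
      ring]
    funext r
    simp [mul_comm]
  | one => exact ⟨1, one_mem _, fun v => by simp⟩
  | mul a b _ _ ha hb =>
    obtain ⟨y, hy, hya⟩ := ha
    obtain ⟨z, hz, hzb⟩ := hb
    exact ⟨y * z, mul_mem hy hz, fun v => by
      rw [Subgroup.coe_mul, LinearEquiv.mul_apply, hzb, hya, Matrix.mulVec_mulVec]; rfl⟩
  | inv a _ ha =>
    obtain ⟨y, hy, hya⟩ := ha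
    refine ⟨y⁻¹, inv_mem hy, fun v => ?_⟩
    apply a.1.injective
    rw [hya ((y⁻¹ : O8).1.1 *ᵥ v), Matrix.mulVec_mulVec, ← Units.val_mul, ← Subgroup.coe_mul,
      mul_inv_cancel]
    simp

end Cfsg.Agent.SchurOEight
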